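import Cfsg.Agent.Rudvalis.Aut.Complete
import Cfsg.Agent.Rudvalis.Aut.MapData
import Cfsg.Agent.Rudvalis.Aut.MapDefs
import Cfsg.Agent.Rudvalis.Mult.Data
import Cfsg.Agent.RuModel.Data
import Cfsg.Agent.Schur.ActPrime

/-!
# The computable action on coded shortest vectors

The code of a unit multiple is four times the line plus the exponent.
-/

set_option autoImplicit false

namespace Cfsg.Lib.Rudvalis.Mult

/-- The table of the lines of a lift. -/
def lineTab (k : ℕ) : RuModel.RT := bif k == 0 then RuModel.permT0 else RuModel.permT1

/-- The images and phases of a lift. -/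
def moves (k : ℕ) : ℕ := bif k == 0 then movesA else movesB

/-- An entry of the table of a lift. -/
def entry (k y : ℕ) : ℕ := (moves k >>> (14 * y)) % 16384

/-- The scalar in a lift. -/
def twist (k : ℕ) : ℕ := bif k == 0 then 2 else 1

/-- The images defining a lift. -/
def imgsOf (k : ℕ) : List ℕ := bif k == 0 then imgsA else imgsB

/-- A lift on the codes. -/
def step (k x : ℕ) : ℕ := entry k (x / 4) / 4 * 4 + (entry k (x / 4) + x) % 4

/-- Multiplication by the unit on the codes. -/
def rot (x : ℕ) : ℕ := 4 * (x / 4) + (x % 4 + 1) % 4

/-- The first position of the support at or after a given one. -/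
def firstBit : ℕ → ℕ → ℕ → ℕ
  | 0, _, _ => 0
  | f + 1, S, j => bif S.testBit j then j else firstBit f S (j + 1)

/-- The tested position of a line. -/
def pickPos (y : ℕ) : ℕ := firstBit 56 (sup (lineCode y)) 0

/-- The tabulated phase of a lift at a line is the only possible one. -/
def phaseOK (k y : ℕ) : Bool :=
  let l := pickPos y
  let r := rowU (imgsOf k) l
  let e := entry k y
  let c := lineCode (e / 4)
  let t := 4 * wt (lineCode y) l
  Nat.blt l 56 && Nat.blt (e / 4) 4060 && e / 4 == (lineTab k).get 12 y && (List.range 4).all fun u =>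
    decide (dotC (rotN u c) r = t) == ((u + twist k) % 4 == e % 4)

/-- The base points: seven lines with exponent zero. -/
def pts : List ℕ := [0, 4, 8, 9888, 1576, 36, 12]

end Cfsg.Lib.Rudvalis.Mult
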