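import Cfsg.Agent.Rudvalis.Mult.ThreeData
import Cfsg.Agent.Rudvalis.Mult.Defs

/-!
# The certificate for the prime three, evaluated on the coded vectors

Collection, elimination, rules, conjugations and stable sets.
-/

set_option autoImplicit false
set_option maxRecDepth 20000
set_option Elab.async false

namespace Cfsg.Lib.Rudvalis.Mult.Three

open Cfsg.Lib.Schur.Prime
open Cfsg.Lib.Schur.PermPrime (wordsIn)
open Cfsg.Lib.Schur.ActPrime (ruleRow fusOK orbOK)

theorem lit_ok : (cert.eqs == lit) = true := by decide +kernel

theorem shape_ok : (Nat.blt 1 cert.p && lit.all (·.1) && cert.shapesOK) = true := by decide +kernel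

theorem elim_ok : ((List.range 3).all fun j => cert.rowOK lit j) = true := by decide +kernel

theorem cert_ok : cert.ok = true :=
  cert.ok_of_lit lit_ok shape_ok fun j hj => List.all_eq_true.mp elim_ok j (List.mem_range.mpr hj)

theorem words_ok : wordsIn 2 pcw = true ∧ wordsIn 2 fw = true := by decide +kernel

theorem rules_ok : ((List.range 3).all fun j => ruleRow step pts cert pcw j) = true := by decide +kernel

theorem fus_ok : fusOK step pts cert pcw fw = true := by decide +kernel

theorem orbs_ok : ((List.range 3).all fun k => orbOK 16240 step 3 pcw k (orbs.getD k [])) = true := by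
  decide +kernel

end Cfsg.Lib.Rudvalis.Mult.Three
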