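import Cfsg.Agent.Rudvalis.Mult.Group
import Cfsg.Agent.Rudvalis.Mult.ThreeChecks
import Cfsg.Agent.Rudvalis.Mult.FiveChecks
import Cfsg.Agent.Schur.UniversalCover

/-!
# The Schur multiplier of the Rudvalis group

The double cover is perfect and has no stem extension of its own: certificates for the primes 2, 3 and 5.
-/

set_option autoImplicit false
set_option linter.style.haveILetI false

namespace Cfsg.Lib.Rudvalis.Mult

open Cfsg.Spor Cfsg.Lib.Schur.Prime
open scoped commutatorElement

theorem neg_mem_two : iAut ^ 2 ∈ two := ser_le_two neg_mem_ser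

theorem two_inf_center : (Subgroup.center fourRu).subgroupOf two =
    Subgroup.zpowers (⟨iAut ^ 2, neg_mem_two⟩ : two) := by
  refine le_antisymm (fun g hg => ?_) (Subgroup.zpowers_le.mpr (pow_mem center_mem 2))
  rw [Subgroup.mem_subgroupOf, center_eq] at hg
  obtain ⟨j, hj⟩ := Subgroup.mem_zpowers_iff.mp hg
  rcases Int.even_or_odd j with ⟨m, rfl⟩ | ⟨m, rfl⟩
  · refine Subgroup.mem_zpowers_iff.mpr ⟨m, Subtype.ext ?_⟩
    rw [← hj, Subgroup.coe_zpow]
    show (iAut ^ 2) ^ m = iAut ^ (m + m)
    rw [← two_mul, zpow_mul]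
    rfl
  · exfalso
    apply iAut_not_two
    have e : iAut = ((iAut ^ 2) ^ m)⁻¹ * (g : fourRu) := by
      rw [← hj, zpow_add_one, zpow_mul, show iAut ^ (2 : ℤ) = iAut ^ 2 from zpow_natCast iAut 2, inv_mul_cancel_left]
    rw [e]
    exact mul_mem (inv_mem (zpow_mem neg_mem_two m)) g.2

theorem card_inf_center : Nat.card ((Subgroup.center fourRu).subgroupOf two) = 2 := by
  rw [two_inf_center, Nat.card_zpowers, Subgroup.orderOf_mk, orderOf_pow_of_dvd two_ne_zero (by rw [orderOf_iAut]; norm_num),
    orderOf_iAut]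

/-- The map of the double cover onto the group. -/
noncomputable def proj : two →* Spor.Ru := (QuotientGroup.mk' (Subgroup.center fourRu)).comp two.subtype

theorem proj_ker : proj.ker = (Subgroup.center fourRu).subgroupOf two := by
  rw [proj, ← MonoidHom.comap_ker, QuotientGroup.ker_mk', Subgroup.subgroupOf]

theorem proj_surjective : Function.Surjective proj := fun q => by
  obtain ⟨g, rfl⟩ := QuotientGroup.mk'_surjective (Subgroup.center fourRu) q
  obtain ⟨n, hn, z, hz, rfl⟩ := two_sup_center g
  refine ⟨⟨n, hn⟩, ?_⟩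
  show QuotientGroup.mk' _ n = _
  rw [map_mul, show QuotientGroup.mk' (Subgroup.center fourRu) z = 1 from (QuotientGroup.eq_one_iff z).mpr hz, mul_one]

theorem two_perfect : commutator two = ⊤ := by
  have h1 : two ≤ ⁅two, two⁆ := Cfsg.Lib.Schur.commutator_eq_of_central le_rfl two_sup_center
  apply Subgroup.map_injective two.subtype_injective
  rw [Subgroup.map_subtype_commutator, ← MonoidHom.range_eq_map, Subgroup.range_subtype]
  exact le_antisymm (Subgroup.commutator_le_self _) h1

theorem proj_stem : Cfsg.IsStemExtension proj := by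
  refine ⟨proj_surjective, fun g hg => ?_, by rw [two_perfect]; exact le_top⟩
  rw [proj_ker, Subgroup.mem_subgroupOf] at hg
  exact Subgroup.mem_center_iff.mpr fun h => Subtype.ext (Subgroup.mem_center_iff.mp hg h)

theorem card_proj_ker : Nat.card proj.ker = 2 := by rw [proj_ker, card_inf_center]

theorem card_two : Nat.card two = 291852288000 := by
  rw [Subgroup.card_eq_card_quotient_mul_card_subgroup proj.ker, card_proj_ker,
    Nat.card_congr (QuotientGroup.quotientKerEquivOfSurjective proj proj_surjective).toEquiv, card_ru]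

/-- The double cover on the shortest vectors. -/
noncomputable abbrev rho : two →* Equiv.Perm V := vecPerm.comp two.subtype

theorem based_two : Cfsg.Lib.Schur.ActPrime.Based rho enc pts := fun _ _ h => Subtype.ext (based h)

theorem not_dvd (c : Cert) (hp : c.p.Prime) (hc : c.ok = true) (pcw fw : List (List ℕ)) {n : ℕ} (hn : c.n = n)
    (hw : Cfsg.Lib.Schur.PermPrime.wordsIn 2 pcw = true ∧ Cfsg.Lib.Schur.PermPrime.wordsIn 2 fw = true)
    (hr : ((List.range n).all fun j => Cfsg.Lib.Schur.ActPrime.ruleRow step pts c pcw j) = true)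
    (hf : Cfsg.Lib.Schur.ActPrime.fusOK step pts c pcw fw = true) (O : List (List ℕ))
    (hO : ((List.range n).all fun k => Cfsg.Lib.Schur.ActPrime.orbOK 16240 step n pcw k (O.getD k [])) = true)
    (hcard : (Nat.card two).factorization c.p = c.n)
    {Γ : Type} [Group Γ] [Finite Γ] {σ : Γ →* two} (hσ : Cfsg.IsStemExtension σ) : ¬ c.p ∣ Nat.card σ.ker := by
  subst hn
  exact Cfsg.Lib.Schur.ActPrime.not_dvd_ker rho acts based_two c hp hc pcw fw hw.1 hw.2
    (fun j hj => List.all_eq_true.mp hr j (List.mem_range.mpr hj)) hf O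
    (fun k hk => List.all_eq_true.mp hO k (List.mem_range.mpr hk)) hcard
    (fun w _ => ⟨⟨wordVal w, wordVal_mem w⟩, vecPerm_wordVal w⟩) hσ

theorem factorization_eq {n p e : ℕ} (hn : n ≠ 0) (hp : p.Prime) (h1 : p ^ e ∣ n) (h2 : ¬ p ^ (e + 1) ∣ n) :
    n.factorization p = e := by
  refine le_antisymm ?_ ((hp.pow_dvd_iff_le_factorization hn).mp h1)
  by_contra h
  exact h2 ((hp.pow_dvd_iff_le_factorization hn).mpr (by omega))

theorem two_cover_ker {Γ : Type} [Group Γ] [Finite Γ] {σ : Γ →* two} (hσ : Cfsg.IsStemExtension σ) :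
    σ.ker = ⊥ := by
  refine Cfsg.Lib.Schur.ker_eq_bot_of_sylow hσ fun p hp => ?_
  haveI := hp
  by_cases h2 : p ^ 2 ∣ 291852288000
  · have h235 : p = 2 ∨ p = 3 ∨ p = 5 := by
      have h1 : p ∣ 2 ^ 15 * 3 ^ 3 * 5 ^ 3 * (7 * 13 * 29) :=
        (dvd_pow_self p two_ne_zero).trans (by norm_num; exact h2)
      rcases hp.out.dvd_mul.mp h1 with h1 | h1
      · rcases hp.out.dvd_mul.mp h1 with h1 | h1
        · rcases hp.out.dvd_mul.mp h1 with h1 | h1
          · exact Or.inl ((Nat.prime_dvd_prime_iff_eq hp.out Nat.prime_two).mp (hp.out.dvd_of_dvd_pow h1))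
          · exact Or.inr (Or.inl ((Nat.prime_dvd_prime_iff_eq hp.out Nat.prime_three).mp (hp.out.dvd_of_dvd_pow h1)))
        · exact Or.inr (Or.inr ((Nat.prime_dvd_prime_iff_eq hp.out (by norm_num)).mp (hp.out.dvd_of_dvd_pow h1)))
      · rcases hp.out.dvd_mul.mp h1 with h1 | h1
        · rcases hp.out.dvd_mul.mp h1 with h1 | h1
          · rw [(Nat.prime_dvd_prime_iff_eq hp.out (by norm_num)).mp h1] at h2; norm_num at h2
          · rw [(Nat.prime_dvd_prime_iff_eq hp.out (by norm_num)).mp h1] at h2; norm_num at h2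
        · rw [(Nat.prime_dvd_prime_iff_eq hp.out (by norm_num)).mp h1] at h2; norm_num at h2
    rcases h235 with rfl | rfl | rfl
    · exact Two.cert.exists_sylow (not_dvd Two.cert (show Nat.Prime 2 by norm_num) Two.cert_ok Two.pcw Two.fw
        (n := 15) rfl Two.words_ok Two.rules_ok Two.fus_ok _ Two.orbs_ok (by
          rw [card_two]
          exact factorization_eq (p := 2) (e := 15) (by norm_num) (by norm_num) (by norm_num) (by norm_num)) hσ)
    · exact Three.cert.exists_sylow (not_dvd Three.cert (show Nat.Prime 3 by norm_num) Three.cert_ok Three.pcw Three.fw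
        (n := 3) rfl Three.words_ok Three.rules_ok Three.fus_ok _ Three.orbs_ok (by
          rw [card_two]
          exact factorization_eq (p := 3) (e := 3) (by norm_num) (by norm_num) (by norm_num) (by norm_num)) hσ)
    · exact Five.cert.exists_sylow (not_dvd Five.cert (show Nat.Prime 5 by norm_num) Five.cert_ok Five.pcw Five.fw
        (n := 3) rfl Five.words_ok Five.rules_ok Five.fus_ok _ Five.orbs_ok (by
          rw [card_two]
          exact factorization_eq (p := 5) (e := 3) (by norm_num) (by norm_num) (by norm_num) (by norm_num)) hσ)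
  · exact Cfsg.Lib.Schur.exists_sylow_cyclic hσ (by rwa [card_two])

/-- The multiplier has order two. -/
theorem multiplier_ru : Cfsg.HasCyclicSchurMultiplier Spor.Ru 2 := by
  haveI : Finite Spor.Ru := Finite.of_surjective proj proj_surjective
  haveI : Fact (Nat.Prime 2) := ⟨Nat.prime_two⟩
  exact Cfsg.Lib.Schur.hasCyclicSchurMultiplier_of_cover proj proj_stem two_perfect
    (fun Δ _ _ τ hτ => two_cover_ker hτ) (isCyclic_of_prime_card card_proj_ker) card_proj_ker

end Cfsg.Lib.Rudvalis.Mult
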