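import Cfsg.Agent.Rudvalis.Mult.Defs

/-!
# The phases of the first lift

Checked line by line.
-/

set_option autoImplicit false
set_option maxRecDepth 20000
set_option Elab.async false

namespace Cfsg.Lib.Rudvalis.Mult

theorem phaseA_0 : RuModel.chk (phaseOK 0) 0 812 = true := by decide +kernel

theorem phaseA_1 : RuModel.chk (phaseOK 0) 812 812 = true := by decide +kernel

theorem phaseA_2 : RuModel.chk (phaseOK 0) 1624 812 = true := by decide +kernel

theorem phaseA_3 : RuModel.chk (phaseOK 0) 2436 812 = true := by decide +kernel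

theorem phaseA_4 : RuModel.chk (phaseOK 0) 3248 812 = true := by decide +kernel

theorem phaseA_ok : RuModel.chk (phaseOK 0) 0 4060 = true :=
  (RuModel.chk_join (RuModel.chk_join (RuModel.chk_join (RuModel.chk_join phaseA_0 phaseA_1 rfl rfl) phaseA_2 rfl rfl) phaseA_3 rfl rfl) phaseA_4 rfl rfl)

end Cfsg.Lib.Rudvalis.Mult
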