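import Cfsg.Agent.Rudvalis.Aut.Group
import Cfsg.Agent.Rudvalis.Mult.PhaseA
import Cfsg.Agent.Rudvalis.Mult.PhaseB

/-!
# The lattice automorphisms on the 16240 shortest vectors

A shortest vector is a line and an exponent of the unit. Seven of them determine an automorphism.
-/

set_option autoImplicit false

namespace Cfsg.Lib.Rudvalis.Mult

open Cfsg.Spor

/-- The shortest vectors. -/
abbrev V : Type := Fin 4060 × Fin 4

/-- The code of a shortest vector. -/
def enc (p : V) : ℕ := 4 * p.1.val + p.2.val

theorem enc_inj : Function.Injective enc := by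
  rintro ⟨a, u⟩ ⟨b, w⟩ h
  have := u.2; have := w.2
  simp only [enc] at h
  exact Prod.ext (Fin.ext (show a.val = b.val by omega)) (Fin.ext (show u.val = w.val by omega))

theorem enc_surj : ∀ v < 16240, ∃ p : V, enc p = v := fun v hv =>
  ⟨(⟨v / 4, by omega⟩, ⟨v % 4, by omega⟩), Nat.div_add_mod v 4⟩

theorem gI_pow_mod (a : ℕ) : gI ^ a = gI ^ (a % 4) := pow_eq_pow_mod a (show gI ^ 4 = 1 from rfl)

theorem pow_cancel {a b : ℕ} {y : Fin 4060} (h : gI ^ a • lineVec y = gI ^ b • lineVec y) : a % 4 = b % 4 := by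
  have hh := congrArg (fun w => herm (lineVec y) w) h
  have e : ∀ c : GaussianInt, herm (lineVec y) (c • lineVec y) = c * herm (lineVec y) (lineVec y) := fun c => by
    simpa using herm_smul 1 c (lineVec y) (lineVec y)
  have hne : herm (lineVec y) (lineVec y) ≠ 0 := fun e0 => by
    have h1 := congrArg Zsqrtd.re e0
    rw [herm_eq] at h1
    simp [dot_lineVec] at h1
  simp only [e] at hh
  have hp := mul_right_cancel₀ hne hh
  rw [gI_pow_mod a, gI_pow_mod b] at hp
  have : ∀ i < 4, ∀ j < 4, gI ^ i = gI ^ j → i = j := by decide +kernel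
  exact this _ (Nat.mod_lt _ (by norm_num)) _ (Nat.mod_lt _ (by norm_num)) hp

/-- The exponent by which an automorphism multiplies the representative of a line. -/
noncomputable def phase (g : fourRu) (x : Fin 4060) : Fin 4 :=
  ⟨(move_spec g x).choose % 4, Nat.mod_lt _ (by norm_num)⟩

theorem phase_eq {g : fourRu} {x y : Fin 4060} {u : ℕ}
    (h : ((g.1 (latLine x) : ruLattice) : RuVec) = gI ^ u • lineVec y) :
    move g x = y ∧ (phase g x : ℕ) = u % 4 :=
  ⟨move_eq h, pow_cancel (y := y) (by rw [← h, ← move_eq h]; exact ((move_spec g x).choose_spec).symm)⟩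

theorem phase_spec (g : fourRu) (x : Fin 4060) :
    ((g.1 (latLine x) : ruLattice) : RuVec) = gI ^ (phase g x : ℕ) • lineVec (move g x) := by
  rw [(move_spec g x).choose_spec]
  exact congrArg (fun c => c • lineVec (move g x)) (gI_pow_mod _)

theorem phase_mul (g k : fourRu) (x : Fin 4060) : phase (g * k) x = phase k x + phase g (move k x) := by
  refine Fin.ext ?_
  rw [Fin.val_add]
  refine (phase_eq (y := move g (move k x)) (u := (phase k x : ℕ) + (phase g (move k x) : ℕ)) ?_).2
  show ((g.1 (k.1 (latLine x)) : ruLattice) : RuVec) = _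
  rw [aut_pow g _ (latLine (move k x)) _ (phase_spec k x), phase_spec, smul_smul, pow_add]

theorem phase_one (x : Fin 4060) : phase 1 x = 0 :=
  Fin.ext (phase_eq (y := x) (u := 0) (by simp [latLine])).2

/-- An automorphism on the shortest vectors. -/
noncomputable def vmap (g : fourRu) (p : V) : V := (move g p.1, p.2 + phase g p.1)

theorem vmap_mul (g k : fourRu) (p : V) : vmap (g * k) p = vmap g (vmap k p) := by
  simp only [vmap, move_mul, phase_mul]
  exact Prod.ext rfl (add_assoc _ _ _).symm

theorem vmap_one (p : V) : vmap 1 p = p := by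
  simp [vmap, move_one, phase_one]

/-- The action on the shortest vectors. -/
noncomputable def vecPerm : fourRu →* Equiv.Perm V where
  toFun g :=
    { toFun := vmap g
      invFun := vmap g⁻¹
      left_inv := fun p => by rw [← vmap_mul, inv_mul_cancel, vmap_one]
      right_inv := fun p => by rw [← vmap_mul, mul_inv_cancel, vmap_one] }
  map_one' := Equiv.ext vmap_one
  map_mul' g k := Equiv.ext (vmap_mul g k)

theorem vecPerm_apply (g : fourRu) (p : V) : vecPerm g p = (move g p.1, p.2 + phase g p.1) := rfl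

/-- The two lifts of order twenty-nine. -/
noncomputable def lift : ℕ → fourRu
  | 0 => iAut ^ 2 * latAut goodA
  | _ => iAut ^ 1 * latAut goodB

theorem iAut_vec (a : ℕ) (x : Fin 4060) : move (iAut ^ a) x = x ∧ (phase (iAut ^ a) x : ℕ) = a % 4 :=
  phase_eq (iAut_pow a (latLine x))

theorem rot_spec (p : V) : enc (vecPerm iAut p) = rot (enc p) := by
  obtain ⟨h1, h2⟩ := iAut_vec 1 p.1
  rw [pow_one] at h1 h2
  have := p.2.2
  simp only [vecPerm_apply, enc, h1, Fin.val_add, h2, rot]
  omega

theorem firstBit_lt : ∀ f S j, j + f ≤ 56 → firstBit f S j < 56 ∨ firstBit f S j = 0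
  | 0, S, j, _ => Or.inr rfl
  | f + 1, S, j, h => by
    rw [firstBit]
    cases S.testBit j
    · exact firstBit_lt f S (j + 1) (by omega)
    · exact Or.inl (by simp only [cond_true]; omega)

theorem four_mem (l : Fin 56) : four l ∈ span :=
  AddSubgroup.subset_closure (Or.inr ⟨unflat fun j => if j = l then 1 else 0,
    flat_injective (funext fun j => by rw [four, flat_unflat, flat_zsmul, Pi.smul_apply, flat_unflat]; split <;> simp)⟩)

theorem mapU_four {U : List ℕ} {M : ℕ} (h : GoodMap U M) (l : Fin 56) : mapU U (four l) = vec (rowU U l) :=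
  four_inj (by
    rw [(h.facts (four_mem l)).four_smul]
    refine flat_injective (funext fun j => ?_)
    rw [flat_smulU, flat_zsmul, Pi.smul_apply, flat_vec, Finset.sum_eq_single l]
    · simp [four, flat_unflat]
    · intro b _ hb; simp [four, flat_unflat, hb]
    · simp)

theorem dot_four_vec (v : RuVec) (l : Fin 56) : dot v (four l) = 4 * flat v l := by
  rw [dot, Finset.sum_eq_single l]
  · simp [four, flat_unflat, mul_comm]
  · intro b _ hb; simp [four, flat_unflat, hb]
  · simp

theorem latAut_phase {k : ℕ} {M : ℕ} (h : GoodMap (imgsOf k) M) {p : Equiv.Perm (Fin 4060)}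
    (hp : ∀ x : Fin 4060, RuModel.vv (p x) = RuModel.vap (RuModel.vv x) M)
    (htab : ∀ x : Fin 4060, (p x : ℕ) = (lineTab k).get 12 x) (x : Fin 4060) (hok : phaseOK k x = true) :
    move (latAut h) x = p x ∧ (p x : ℕ) = entry k x / 4 ∧
      ((phase (latAut h) x : ℕ) + twist k) % 4 = entry k x % 4 := by
  have hmove : move (latAut h) x = p x := by rw [← linePerm_apply, linePerm_latAut h hp]
  simp only [phaseOK, Bool.and_eq_true, beq_iff_eq, List.all_eq_true, List.mem_range, Nat.blt, Nat.ble_eq] at hok
  obtain ⟨⟨⟨hl, -⟩, hline⟩, hall⟩ := hok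
  have hline' : (p x : ℕ) = entry k x / 4 := by rw [htab, hline]
  refine ⟨hmove, hline', ?_⟩
  set u : ℕ := (phase (latAut h) x : ℕ) with hu
  have hu4 : u < 4 := (phase (latAut h) x).2
  let l : Fin 56 := ⟨pickPos x, hl⟩
  have hd : dot (((latAut h).1 (latLine x) : ruLattice) : RuVec)
      (((latAut h).1 ⟨four l, span_eq.le (four_mem l)⟩ : ruLattice) : RuVec) = dot (lineVec x) (four l) :=
    aut_dot (latAut h) (latLine x) ⟨four l, span_eq.le (four_mem l)⟩
  rw [show (((latAut h).1 ⟨four l, span_eq.le (four_mem l)⟩ : ruLattice) : RuVec) = mapU (imgsOf k) (four l) from rfl,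
    mapU_four h, phase_spec, hmove, ← hu, lineVec, ← vec_rotN, dot_vec, dot_four_vec, lineVec, flat_vec,
    hline'] at hd
  have h' := hall u hu4
  rw [decide_eq_true (show dotC (rotN u (lineCode (entry k x / 4))) (rowU (imgsOf k) (pickPos x)) =
    4 * wt (lineCode x) (pickPos x) from hd)] at h'
  exact (beq_iff_eq.mp h'.symm)

theorem lift_spec_aux {k : ℕ} {M : ℕ} (h : GoodMap (imgsOf k) M) {p : Equiv.Perm (Fin 4060)}
    (hp : ∀ x : Fin 4060, RuModel.vv (p x) = RuModel.vap (RuModel.vv x) M)
    (htab : ∀ x : Fin 4060, (p x : ℕ) = (lineTab k).get 12 x) (hok : RuModel.chk (phaseOK k) 0 4060 = true)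
    (q : V) : enc (vecPerm (iAut ^ twist k * latAut h) q) = step k (enc q) := by
  obtain ⟨h1, h2, h3⟩ := latAut_phase h hp htab q.1 (RuModel.chk_apply hok q.1.isLt)
  obtain ⟨i1, i2⟩ := iAut_vec (twist k) (move (latAut h) q.1)
  have := q.2.2
  have e : (4 * (q.1 : ℕ) + (q.2 : ℕ)) / 4 = q.1 := by omega
  simp only [vecPerm_apply, enc, move_mul, phase_mul, h1, Fin.val_add, step, e]
  rw [h1] at i1 i2
  rw [i2, i1, h2]
  omega

theorem lift_spec : ∀ k < 2, ∀ q : V, enc (vecPerm (lift k) q) = step k (enc q) := by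
  intro k hk q
  rcases (show k = 0 ∨ k = 1 by omega) with rfl | rfl
  · exact lift_spec_aux (k := 0) (M := RuModel.ru0.mat 0) goodA genA_fits (fun _ => rfl) phaseA_ok q
  · exact lift_spec_aux (k := 1) (M := RuModel.ru0.mat 1) goodB genB_fits (fun _ => rfl) phaseB_ok q

/-- The images of the two lifts. -/
noncomputable def im (k : ℕ) : Equiv.Perm V := vecPerm (lift k)

theorem acts : Cfsg.Lib.Schur.ActPrime.Acts 16240 2 enc im step :=
  ⟨enc_inj, enc_surj, lift_spec⟩

theorem linePerm_lift : linePerm (lift 0) = RuModel.genA ∧ linePerm (lift 1) = RuModel.genB := by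
  have hi : ∀ a, linePerm (iAut ^ a) = 1 := fun a => Equiv.ext fun x => (iAut_vec a x).1
  constructor
  · show linePerm (iAut ^ 2 * latAut goodA) = _
    rw [map_mul, hi, one_mul, linePerm_latAut goodA genA_fits]
  · show linePerm (iAut ^ 1 * latAut goodB) = _
    rw [map_mul, hi, one_mul, linePerm_latAut goodB genB_fits]

theorem fixes_chain {σ : Equiv.Perm (Fin 4060)} (hσ : σ ∈ lineGroup) :
    ∀ (r : List Step) (known : List ℕ), (∀ s ∈ r, s ∈ steps) → headsOK r known = true →
      (∀ s ∈ r, 1 < s.allow.length → ∀ x : Fin 4060, (x : ℕ) = s.allow.getD 0 0 → σ x = x) →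
      FixesAll σ known →
      (known ++ r.map fun s => s.allow.getD 0 0) = knownStart ++ steps.map (fun s => s.allow.getD 0 0) →
      FixesAll σ (known ++ r.map fun s => s.allow.getD 0 0)
  | [], known, _, _, _, hfix, _ => by simpa using hfix
  | s :: r, known, hsub, hok, hbig, hfix, he => by
    simp only [headsOK, Step.headOK, Bool.and_eq_true, List.all_eq_true, decide_eq_true_eq,
      List.contains_iff_mem] at hok
    obtain ⟨⟨hne, hlt, hitems⟩, hr⟩ := hok
    have hstep : FixesAll σ (known ++ [s.allow.getD 0 0]) := by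
      intro x hx
      rcases List.mem_append.mp hx with hx | hx
      · exact hfix x hx
      have hxa : (x : ℕ) = s.allow.getD 0 0 := List.mem_singleton.mp hx
      by_cases h1 : 1 < s.allow.length
      · exact hbig s List.mem_cons_self h1 x hxa
      have hscan := RuModel.chk_apply (scans_ok (hsub s List.mem_cons_self)) (σ x).isLt
      have hpass : (s.items.all fun it => it.test (σ x : ℕ)) = true := by
        refine List.all_eq_true.mpr fun it hit => ?_
        obtain ⟨hp, hq, hw, ht⟩ := hitems it hit
        have hb : ((knownStart ++ steps.map fun s => s.allow.getD 0 0).all fun c => Nat.blt c 4060) = true := by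
          decide +kernel
        simp only [List.all_eq_true, Nat.blt, Nat.ble_eq] at hb
        have hp' : it.p < 4060 := hb _ (he ▸ List.mem_append_left _ hp)
        have hq' : it.q < 4060 := hb _ (he ▸ List.mem_append_left _ hq)
        rw [Item.test_iff hw] at ht ⊢
        rw [← ht, ← hxa]
        exact lineGroup_tri hσ (p := ⟨it.p, hp'⟩) (q := ⟨it.q, hq'⟩) (hfix _ hp) (hfix _ hq) x
      rw [Step.scanOK, hpass, if_pos rfl, List.contains_iff_mem] at hscan
      refine Fin.ext ?_
      rcases hl : s.allow with _ | ⟨a, _ | ⟨b, l⟩⟩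
      · rw [hl] at hscan; exact absurd hscan List.not_mem_nil
      · rw [hl] at hscan hxa
        rw [List.mem_singleton.mp hscan, hxa]
        rfl
      · rw [hl] at h1; simp at h1
    have := fixes_chain hσ r (known ++ [s.allow.getD 0 0]) (fun t ht => hsub t (List.mem_cons_of_mem s ht)) hr
      (fun t ht => hbig t (List.mem_cons_of_mem s ht)) hstep (by rw [← he]; simp)
    simpa using this

theorem pts_ok : (pts.contains 0 && knownStart.all (fun c => pts.contains (4 * c)) &&
    steps.all fun s => !(Nat.blt 1 s.allow.length) || pts.contains (4 * s.allow.getD 0 0)) = true := by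
  decide +kernel

theorem based {a b : fourRu} (h : ∀ p : V, enc p ∈ pts → vecPerm a p = vecPerm b p) : a = b := by
  set c : fourRu := a⁻¹ * b with hc
  have hfix : ∀ p : V, enc p ∈ pts → vecPerm c p = p := fun p hp => by
    rw [hc, map_mul, Equiv.Perm.mul_apply, ← h p hp, map_inv]
    exact (vecPerm a).symm_apply_apply p
  have hpts := pts_ok
  simp only [Bool.and_eq_true, List.all_eq_true, Bool.or_eq_true, Bool.not_eq_true', List.contains_iff_mem] at hpts
  obtain ⟨⟨hz, hstart⟩, hsteps⟩ := hpts
  have hline : ∀ x : Fin 4060, 4 * (x : ℕ) ∈ pts → linePerm c x = x ∧ phase c x = 0 := fun x hx => by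
    have h0 := hfix (x, 0) (by simpa [enc] using hx)
    rw [vecPerm_apply, Prod.ext_iff] at h0
    exact ⟨h0.1, by simpa using h0.2⟩
  have hall := fixes_chain (σ := linePerm c) ⟨c, rfl⟩ steps knownStart (fun _ hs => hs) heads_ok
    (fun s hs h1 x hx => (hline x (by
      rw [hx]
      rcases hsteps s hs with h | h
      · rw [show Nat.blt 1 s.allow.length = true from Nat.ble_eq.mpr h1] at h; cases h
      · exact h)).1)
    (fun x hx => (hline x (hstart _ hx)).1) rfl
  obtain ⟨u, hu⟩ := scalar_of_fixes c hall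
  have h0 : (phase c ⟨0, by norm_num⟩ : ℕ) = u % 4 := (phase_eq (y := ⟨0, by norm_num⟩) (hu (latLine ⟨0, by norm_num⟩))).2
  rw [(hline ⟨0, by norm_num⟩ (by simpa using hz)).2] at h0
  have : c = 1 := Subtype.ext (Equiv.ext fun z => Subtype.ext (by
    rw [hu z, gI_pow_mod u, ← h0]
    simp))
  exact inv_mul_eq_one.mp this

end Cfsg.Lib.Rudvalis.Mult
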