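import Cfsg.Agent.Rudvalis.Mult.TwoData
import Cfsg.Agent.Rudvalis.Mult.Defs

/-!
# The certificate for the prime two, evaluated on the coded vectors

Collection, elimination, rules, conjugations and stable sets.
-/

set_option autoImplicit false
set_option maxRecDepth 20000
set_option Elab.async false

namespace Cfsg.Lib.Rudvalis.Mult.Two

open Cfsg.Lib.Schur.Prime
open Cfsg.Lib.Schur.PermPrime (wordsIn)
open Cfsg.Lib.Schur.ActPrime (ruleRow fusOK orbOK ev)

theorem lit_ok : (cert.eqs == lit) = true := by decide +kernel

theorem shape_ok : (Nat.blt 1 cert.p && lit.all (·.1) && cert.shapesOK) = true := by decide +kernel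

theorem elim_ok : ((List.range 15).all fun j => cert.rowOK lit j) = true := by decide +kernel

theorem cert_ok : cert.ok = true :=
  cert.ok_of_lit lit_ok shape_ok fun j hj => List.all_eq_true.mp elim_ok j (List.mem_range.mpr hj)

theorem words_ok : wordsIn 2 pcw = true ∧ wordsIn 2 fw = true := by decide +kernel

theorem rules_ok : ((List.range 15).all fun j => ruleRow step pts cert pcw j) = true := by decide +kernel

theorem fus_ok : fusOK step pts cert pcw fw = true := by decide +kernel

theorem orbs_ok : ((List.range 15).all fun k => orbOK 16240 step 15 pcw k (orbs.getD k [])) = true := by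
  decide +kernel

theorem last_neg : (pts.all fun p => ev step (pcw.getD 14 []) p == rot (rot p)) = true := by decide +kernel

theorem away_ok : ((List.range 15).all fun k =>
    let O := orbs.getD k []
    !((O.map rot).contains (ev step (pcw.getD k []) (O.getD 0 0)))) = true := by
  decide +kernel

end Cfsg.Lib.Rudvalis.Mult.Two
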