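import Cfsg.Agent.Rudvalis.Mult.Action
import Cfsg.Agent.Rudvalis.Mult.TwoChecks
import Mathlib.GroupTheory.Transfer

/-!
# The double cover of the Rudvalis group inside the lattice automorphisms

The commutator subgroup contains minus one, and transfer into a Sylow subgroup keeps the unit `i` out.
-/

set_option autoImplicit false
set_option linter.style.haveILetI false

namespace Cfsg.Lib.Rudvalis.Mult

open Cfsg.Spor Cfsg.Lib.Schur.Prime
open scoped commutatorElement

instance finite_fourRu : Finite fourRu :=
  Finite.of_injective vecPerm fun _ _ h => based fun p _ => by rw [h]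

theorem card_fourRu : Nat.card fourRu = 583704576000 := by
  rw [Subgroup.card_eq_card_quotient_mul_card_subgroup (Subgroup.center fourRu), card_center,
    show Nat.card (fourRu ⧸ Subgroup.center fourRu) = 145926144000 from card_ru]

theorem center_mem : iAut ∈ Subgroup.center fourRu := by
  rw [center_eq]; exact Subgroup.mem_zpowers _

theorem comm_iAut (g : fourRu) : g * iAut = iAut * g := Subgroup.mem_center_iff.mp center_mem g

theorem orderOf_iAut : orderOf iAut = 4 := by
  rw [← Nat.card_zpowers, ← center_eq, card_center]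

/-- The value of a word in the lifts. -/
noncomputable def wordVal (l : List ℕ) : fourRu := (l.map lift).prod

theorem vecPerm_wordVal (l : List ℕ) : vecPerm (wordVal l) = Cfsg.Lib.Schur.ActPrime.elem im l := by
  rw [wordVal, map_list_prod, List.map_map]; rfl

theorem enc_wordVal {l : List ℕ} (hl : l.all (fun k => Nat.blt k 2) = true) (p : V) :
    enc (vecPerm (wordVal l) p) = Cfsg.Lib.Schur.ActPrime.ev step l (enc p) := by
  rw [vecPerm_wordVal]; exact Cfsg.Lib.Schur.ActPrime.elem_apply acts hl p

theorem based_top : Cfsg.Lib.Schur.ActPrime.Based vecPerm enc pts := fun _ _ h => based h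

/-- The double cover. -/
abbrev two : Subgroup fourRu := commutator fourRu

theorem commutator_model : commutator RuModel.ruGroup = ⊤ := by
  haveI : IsSimpleGroup RuModel.ruGroup := RuModel.ru_simple
  rcases (inferInstance : (commutator RuModel.ruGroup).Normal).eq_bot_or_eq_top with h | h
  · refine absurd (fun a b => ?_) not_comm_model
    have := Subgroup.commutator_mem_commutator (Subgroup.mem_top a) (Subgroup.mem_top b)
    rw [← commutator_def, h, Subgroup.mem_bot] at this
    exact commutatorElement_eq_one_iff_mul_comm.mp this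
  · exact h

theorem map_two : two.map toModel = ⊤ := by
  rw [two, commutator_def, Subgroup.map_commutator, Subgroup.map_top_of_surjective toModel toModel_surjective,
    ← commutator_def, commutator_model]

theorem two_sup_center (g : fourRu) : ∃ n ∈ two, ∃ z ∈ Subgroup.center fourRu, g = n * z := by
  obtain ⟨n, hn, hng⟩ := (map_two.ge (Subgroup.mem_top (toModel g)) : toModel g ∈ two.map toModel)
  refine ⟨n, hn, n⁻¹ * g, ?_, (mul_inv_cancel_left n g).symm⟩
  rw [← ker_toModel, MonoidHom.mem_ker, map_mul, map_inv, hng, inv_mul_cancel]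

theorem pow_29 : ((List.range 2).all fun k => pts.all fun p =>
    Cfsg.Lib.Schur.ActPrime.ev step (List.replicate 29 k) p == p) = true := by
  decide +kernel

theorem lift_mem (k : ℕ) : lift k ∈ two := by
  have hk2 : ∀ k, k < 2 → lift k ∈ two := by
    intro k hk
    have h29 : lift k ^ 29 = 1 := by
      have e : lift k ^ 29 = wordVal (List.replicate 29 k) := by
        rw [wordVal, List.map_replicate, List.prod_replicate]
      rw [e]
      refine based fun p hp => enc_inj ?_
      rw [enc_wordVal (by simp [Nat.blt, Nat.ble_eq]; omega), map_one, Equiv.Perm.one_apply]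
      exact beq_iff_eq.mp (List.all_eq_true.mp (List.all_eq_true.mp pow_29 k (List.mem_range.mpr hk)) _ hp)
    obtain ⟨n, hn, z, hz, e⟩ := two_sup_center (lift k)
    have hz4 : z ^ 4 = 1 := by
      rw [center_eq] at hz
      obtain ⟨j, rfl⟩ := Subgroup.mem_zpowers_iff.mp hz
      rw [← zpow_natCast, ← zpow_mul, mul_comm, zpow_mul, zpow_natCast,
        show iAut ^ 4 = 1 from orderOf_iAut ▸ pow_orderOf_eq_one iAut, one_zpow]
    have hc : Commute n z := (Subgroup.mem_center_iff.mp hz n)
    have h4 : lift k ^ 4 ∈ two := by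
      rw [e, hc.mul_pow, hz4, mul_one]; exact pow_mem hn 4
    have : lift k = (lift k ^ 4) ^ 22 := by
      rw [← pow_mul, show 4 * 22 = 29 * 3 + 1 from rfl, pow_succ, pow_mul, h29, one_pow, one_mul]
    rw [this]; exact pow_mem h4 22
  rcases k with _ | _ | k
  · exact hk2 0 (by norm_num)
  · exact hk2 1 (by norm_num)
  · exact hk2 1 (by norm_num)

theorem wordVal_mem (l : List ℕ) : wordVal l ∈ two :=
  Subgroup.list_prod_mem _ fun g hg => by
    obtain ⟨k, -, rfl⟩ := List.mem_map.mp hg
    exact lift_mem k

/-- The generators of a Sylow two-subgroup. -/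
noncomputable def syl (k : ℕ) : fourRu := wordVal (Two.pcw.getD k [])

/-- The subgroups of the series. -/
noncomputable abbrev ser (k : ℕ) : Subgroup fourRu := sub Two.cert syl k

theorem syl_word (k : ℕ) : (Two.pcw.getD k []).all (fun q => Nat.blt q 2) = true :=
  Cfsg.Lib.Schur.PermPrime.getD_in Two.words_ok.1 k

theorem syl_rules : ∀ j < Two.cert.n, ∀ i ≤ j, val syl (Two.cert.lhs j i) = val syl (Two.cert.tail j i) := by
  intro j hj i hi
  have h := List.all_eq_true.mp Two.rules_ok j (List.mem_range.mpr hj)
  simp only [Cfsg.Lib.Schur.ActPrime.ruleRow, List.all_eq_true, List.mem_range] at h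
  have hx : ∀ k, vecPerm (syl k) = Cfsg.Lib.Schur.ActPrime.elem im (Two.pcw.getD k []) := fun k => vecPerm_wordVal _
  exact Cfsg.Lib.Schur.ActPrime.eq_of_eqOn vecPerm acts based_top
    (Cfsg.Lib.Schur.PermPrime.flat_in Two.words_ok.1 _) (Cfsg.Lib.Schur.PermPrime.flat_in Two.words_ok.1 _)
    (Cfsg.Lib.Schur.ActPrime.map_val vecPerm syl hx _) (Cfsg.Lib.Schur.ActPrime.map_val vecPerm syl hx _)
    (h i (by omega))

theorem cert_shapes : Two.cert.shapesOK = true := by
  have h := Two.cert_ok
  simp only [Cert.ok, Bool.and_eq_true] at h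
  exact h.1.2

theorem ser_card : ∀ d k, k + d = 15 → Nat.card (ser k) = 2 ^ d ∧ iAut ∉ ser k := by
  intro d
  induction d with
  | zero =>
    intro k hk
    have e : ser k = ⊥ := by
      have he : syl '' {i | k ≤ i ∧ i < Two.cert.n} = ∅ := by
        ext g
        simp only [Set.mem_image, Set.mem_setOf_eq, Set.mem_empty_iff_false, iff_false]
        rintro ⟨i, ⟨h1, h2⟩, -⟩
        change i < 15 at h2
        omega
      rw [ser, sub, he, Subgroup.closure_empty]
    refine ⟨by rw [e, Subgroup.card_bot, pow_zero], fun h => ?_⟩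
    rw [e, Subgroup.mem_bot] at h
    have := orderOf_iAut
    rw [h, orderOf_one] at this
    norm_num at this
  | succ d ih =>
    intro k hk
    obtain ⟨hc, hi⟩ := ih (k + 1) (by omega)
    have hkn : k < 15 := by omega
    have hx : ∀ q, vecPerm (syl q) = Cfsg.Lib.Schur.ActPrime.elem im (Two.pcw.getD q []) := fun q => vecPerm_wordVal _
    have horb := List.all_eq_true.mp Two.orbs_ok k (List.mem_range.mpr hkn)
    have hnot : syl k ∉ ser (k + 1) :=
      Cfsg.Lib.Schur.ActPrime.moves_in_orbit vecPerm acts Two.words_ok.1 syl hx horb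
    have hle : ser (k + 1) ≤ ser k :=
      Subgroup.closure_mono (Set.image_mono fun i hi => ⟨(Nat.le_succ k).trans hi.1, hi.2⟩)
    have hmem : syl k ∈ ser k := Subgroup.subset_closure ⟨k, ⟨le_rfl, hkn⟩, rfl⟩
    have hup : Nat.card (ser k) ≤ 2 ^ (d + 1) := card_sub_le Two.cert cert_shapes (by decide) syl syl_rules (d + 1) k hk
    have hidx : (ser (k + 1)).relIndex (ser k) ≠ 1 := fun h => hnot (Subgroup.relIndex_eq_one.mp h hmem)
    have hmul : (ser (k + 1)).relIndex (ser k) * Nat.card (ser (k + 1)) = Nat.card (ser k) := by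
      have h := Subgroup.index_mul_card ((ser (k + 1)).subgroupOf (ser k))
      rwa [Nat.card_congr (Subgroup.subgroupOfEquivOfLe hle).toEquiv] at h
    have hpos : 0 < (ser (k + 1)).relIndex (ser k) :=
      Nat.pos_of_ne_zero fun h => by rw [h, zero_mul] at hmul; exact (Nat.card_pos (α := ser k)).ne hmul
    have h2 : (ser (k + 1)).relIndex (ser k) = 2 := by
      rw [hc] at hmul
      rw [← hmul, pow_succ'] at hup
      have := Nat.le_of_mul_le_mul_right hup (by positivity)
      omega
    refine ⟨by rw [← hmul, h2, hc, pow_succ'], fun hik => ?_⟩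
    -- otherwise the generator is the unit times an element of the smaller subgroup
    have hh : (syl k)⁻¹ * iAut ∈ ser (k + 1) := by
      have := (Subgroup.mul_mem_iff_of_index_two (H := (ser (k + 1)).subgroupOf (ser k)) h2
        (a := (⟨syl k, hmem⟩ : ser k)⁻¹) (b := ⟨iAut, hik⟩)).mpr
        (iff_of_false (fun h => hnot (by simpa [Subgroup.mem_subgroupOf] using h))
          (fun h => hi (by simpa [Subgroup.mem_subgroupOf] using h)))
      simpa [Subgroup.mem_subgroupOf] using this
    simp only [Cfsg.Lib.Schur.ActPrime.orbOK, Bool.and_eq_true, Bool.not_eq_true', List.all_eq_true, List.mem_range,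
      Bool.or_eq_true, Nat.ble_eq, List.contains_iff_mem, Nat.blt] at horb
    obtain ⟨⟨⟨hb, hv⟩, -⟩, hstab⟩ := horb
    set O := Two.orbs.getD k [] with hO
    have key : ∀ q ∈ ser (k + 1), ∀ v : V, enc v ∈ O → enc (vecPerm q v) ∈ O := by
      intro q hq
      rw [ser, sub, ← Subgroup.mem_toSubmonoid, Subgroup.closure_toSubmonoid_of_finite] at hq
      induction hq using Submonoid.closure_induction with
      | mem y hy =>
        obtain ⟨i, ⟨hi1, hi2⟩, rfl⟩ := hy
        intro v hv'
        rw [syl, enc_wordVal (syl_word i)]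
        exact (hstab i hi2).resolve_left (by omega) _ hv'
      | one => intro v hv'; rwa [map_one]
      | mul a b _ _ ha hb =>
        intro v hv'
        rw [map_mul, Equiv.Perm.mul_apply]
        exact ha _ (hb v hv')
    obtain ⟨v, hv'⟩ := enc_surj (O.getD 0 0) (by have := hb _ hv; omega)
    have e : syl k = iAut * ((syl k)⁻¹ * iAut)⁻¹ := by group
    have hin := key _ (inv_mem hh) v (by rw [hv']; exact hv)
    have h := congrArg (fun g => enc (vecPerm g v)) e
    simp only [map_mul, Equiv.Perm.mul_apply, rot_spec] at h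
    rw [syl, enc_wordVal (syl_word k), hv'] at h
    have haway := List.all_eq_true.mp Two.away_ok k (List.mem_range.mpr hkn)
    simp only [Bool.not_eq_true', ← hO] at haway
    rw [← Bool.not_eq_true, List.contains_iff_mem] at haway
    exact haway (List.mem_map.mpr ⟨_, hin, h.symm⟩)

theorem neg_mem_ser : iAut ^ 2 ∈ ser 0 := by
  have : syl 14 = iAut ^ 2 := based fun p hp => enc_inj (by
    rw [syl, enc_wordVal (syl_word 14), pow_two, map_mul, Equiv.Perm.mul_apply, rot_spec, rot_spec]
    exact beq_iff_eq.mp (List.all_eq_true.mp Two.last_neg _ hp))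
  exact this ▸ Subgroup.subset_closure ⟨14, ⟨Nat.zero_le _, by decide⟩, rfl⟩

theorem ser_le_two : ser 0 ≤ two := (Subgroup.closure_le _).mpr (by
  rintro _ ⟨k, -, rfl⟩; exact wordVal_mem _)

theorem iAut_not_two : iAut ∉ two := by
  intro hmem
  obtain ⟨hK, hiK⟩ := ser_card 15 0 rfl
  let P : Subgroup fourRu := ser 0 ⊔ Subgroup.zpowers iAut
  haveI : (Subgroup.zpowers iAut).Normal := by rw [← center_eq]; infer_instance
  have hdec : ∀ p : P, (p : fourRu) ∈ ser 0 ∨ (p : fourRu) * iAut⁻¹ ∈ ser 0 := by
    rintro ⟨p, hp⟩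
    obtain ⟨a, ha, z, hz, rfl⟩ := (Subgroup.mem_sup_of_normal_right (s := ser 0)).mp hp
    obtain ⟨j, rfl⟩ := Subgroup.mem_zpowers_iff.mp hz
    rcases Int.even_or_odd j with ⟨m, rfl⟩ | ⟨m, rfl⟩
    · left
      show a * iAut ^ (m + m) ∈ ser 0
      rw [← two_mul, zpow_mul]
      exact mul_mem ha (zpow_mem (by simpa using neg_mem_ser) m)
    · right
      show a * iAut ^ (2 * m + 1) * iAut⁻¹ ∈ ser 0
      rw [zpow_add_one, mul_assoc, mul_inv_cancel_right, zpow_mul]
      exact mul_mem ha (zpow_mem (by simpa using neg_mem_ser) m)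
  have hleP : ser 0 ≤ P := le_sup_left
  have hiP : iAut ∈ P := Subgroup.mem_sup_right (Subgroup.mem_zpowers _)
  have h2 : ((ser 0).subgroupOf P).index = 2 := by
    refine Subgroup.index_eq_two_iff.mpr ⟨⟨iAut⁻¹, inv_mem hiP⟩, fun b => ?_⟩
    simp only [Subgroup.mem_subgroupOf, Subgroup.coe_mul]
    rcases hdec b with h | h
    · exact Or.inr ⟨h, fun h' => hiK (by simpa using mul_mem (inv_mem h') h)⟩
    · exact Or.inl ⟨h, fun h' => hiK (by simpa using mul_mem (inv_mem h) h')⟩
  have hcardP : Nat.card P = 2 ^ 16 := by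
    have h := Subgroup.index_mul_card ((ser 0).subgroupOf P)
    rw [h2, Nat.card_congr (Subgroup.subgroupOfEquivOfLe hleP).toEquiv, hK] at h
    rw [← h]
    norm_num
  have hindex : P.index = 8906625 := by
    have h := Subgroup.index_mul_card P
    rw [hcardP, card_fourRu] at h
    omega
  have hkey : ∀ (k : ℕ) (g₀ : fourRu), g₀⁻¹ * iAut ^ k * g₀ ∈ P → g₀⁻¹ * iAut ^ k * g₀ = iAut ^ k := fun k g₀ _ => by
    rw [mul_assoc, ← Subgroup.mem_center_iff.mp (pow_mem center_mem k) g₀, inv_mul_cancel_left]
  have hker : two ≤ (MonoidHom.transfer (Abelianization.of (G := P))).ker := by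
    rw [two, commutator_def, Subgroup.commutator_le]
    intro a _ b _
    rw [MonoidHom.mem_ker, map_commutatorElement, commutatorElement_eq_one_iff_mul_comm]
    exact mul_comm _ _
  have h1 := hker hmem
  rw [MonoidHom.mem_ker, MonoidHom.transfer_eq_pow _ iAut hkey] at h1
  have hle : commutator P ≤ (ser 0).subgroupOf P := by
    rw [commutator_def, Subgroup.commutator_le]
    intro a _ b _
    simp only [commutatorElement_def, Subgroup.mul_mem_iff_of_index_two h2, inv_mem_iff]
    tauto
  have h3 := hle (Abelianization.ker_of P ▸ MonoidHom.mem_ker.mpr h1)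
  rw [Subgroup.mem_subgroupOf] at h3
  apply hiK
  have h4 : iAut ^ P.index ∈ ser 0 := h3
  rw [hindex, show 8906625 = 2 * 4453312 + 1 from rfl, pow_succ, pow_mul] at h4
  simpa using mul_mem (inv_mem (pow_mem neg_mem_ser 4453312)) h4

end Cfsg.Lib.Rudvalis.Mult
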