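import Cfsg.Agent.Schur.PrimeCertLit

/-!
# Certificate data for the prime 3 in the double cover of the Rudvalis group

A polycyclic presentation of a Sylow subgroup, consistency equations and fusion.
-/

set_option autoImplicit false
set_option maxRecDepth 20000

namespace Cfsg.Lib.Rudvalis.Mult.Three

open Cfsg.Lib.Schur.Prime (Cert Form)

/-- The certificate. -/
def cert : Cert where
  p := 3
  n := 3
  tails := [
    [[]],
    [[0, 1, 2], []],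
    [[0, 2], [1, 2], []]]
  overlaps := [
    ([1, 1, 1, 0], 2)]
  fuse := [
    ([[0], [1], [2]],
      [[0, 0, 1, 1, 2], [0, 0, 1], [2]],
      [([2, 1], [1, 2]),
        ([2, 0], [0, 2]),
        ([1, 1, 1], []),
        ([0, 0, 0], [])])]
  delta := [
    [],
    [],
    [(3, 1)]]
  sels := [
    [[(0, 1), (1, 2), (2, 1), (3, 1)]],
    [[], [(0, 1), (1, 2), (2, 2), (3, 1), (4, 1)]],
    [[(1, 1)], [(1, 1), (2, 1)], [(0, 2)]]]

/-- The equations written out. -/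
def lit : List (Bool × Form) := [
  (true, [(8, 2)]),
  (true, [(6, 1)]),
  (true, [(6, 2), (7, 1)]),
  (true, [(0, 1), (6, 2), (7, 2), (8, 1)]),
  (true, [(0, 2), (4, 1), (6, 1), (7, 2)])]

/-- Words of the generators. -/
def pcw : List (List ℕ) := [
    [1, 0, 1, 0, 1, 0, 0, 0, 1, 0, 1, 0, 1, 1, 0, 1, 1, 0, 1, 0, 1, 1, 0, 1, 1, 1, 1, 0, 0, 1, 1, 1, 1, 0, 1, 1, 0, 0],
    [0, 1, 0, 1, 0, 0, 1, 1, 1, 1, 0, 1, 1, 1, 1, 1, 0, 1, 0, 1, 0, 1, 0, 0, 1, 1, 1, 1, 0, 1, 0, 0, 1, 1, 1, 0, 1, 1, 0, 0],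
    [0, 1, 1, 0, 0, 0, 1, 1, 0, 0, 0, 0, 0, 0, 0, 1, 1, 0, 0, 0, 0, 0, 1, 1, 0, 1, 0, 0, 0, 1, 1, 1, 0, 1, 0, 1, 0, 0, 1]]

/-- Words of the conjugating elements. -/
def fw : List (List ℕ) := [
    [0, 0, 0, 0, 1, 0, 1, 0, 1, 1, 0, 0, 0, 1, 0, 0, 0, 0, 0, 0, 0, 0, 0, 1, 1, 1, 0, 0, 1, 0, 0, 0, 1, 0, 0, 1, 0]]

/-- Small stable sets of points. -/
def orbs : List (List ℕ) := [
    [16, 9910, 7512],
    [952],
    [0]]

end Cfsg.Lib.Rudvalis.Mult.Three
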