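import Cfsg.Agent.Schur.PrimeCertLit

/-!
# Certificate data for the prime 2 in the double cover of the Rudvalis group

A polycyclic presentation of a Sylow subgroup, consistency equations and fusion.
-/

set_option autoImplicit false
set_option maxRecDepth 20000

namespace Cfsg.Lib.Rudvalis.Mult.Two

open Cfsg.Lib.Schur.Prime (Cert Form)

/-- The certificate. -/
def cert : Cert where
  p := 2
  n := 15
  tails := [
    [[3, 4, 7, 8, 10, 12]],
    [[0, 1, 3, 6, 7, 9, 10, 12, 13], [10, 12, 13]],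
    [[0, 2, 3, 4, 5, 6, 7, 10], [1, 2, 3, 5, 10], [12]],
    [[0, 3, 7, 11, 13], [1, 3, 11, 12], [2, 3, 6, 12, 13, 14], [8, 11, 13]],
    [[0, 4, 7, 9, 12, 13, 14], [1, 4, 7, 11, 14], [2, 4, 11, 14], [3, 4, 9, 13, 14], [11, 13]],
    [[0, 5, 6, 8, 9, 13, 14], [1, 5, 13, 14], [2, 5, 6, 11], [3, 5, 8, 11], [4, 5, 9], []],
    [[0, 6, 8, 9, 10, 11, 13, 14], [1, 6, 8, 11, 12, 13, 14], [2, 6, 12, 14], [3, 6, 12, 14], [4, 6, 11, 12], [5, 6, 12, 13], [12, 14]],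
    [[0, 7, 9, 10, 12], [1, 7, 14], [2, 7, 12, 13, 14], [3, 7, 10, 14], [4, 7, 13], [5, 7, 10, 14], [6, 7, 11, 13], [12, 14]],
    [[0, 8, 10], [1, 8, 12], [2, 8], [3, 8, 13, 14], [4, 8, 11, 13], [5, 8, 13, 14], [6, 8], [7, 8, 12, 13, 14], []],
    [[0, 9, 10, 11, 13], [1, 9, 10, 14], [2, 9, 11, 12], [3, 9, 11, 13], [4, 9, 13, 14], [5, 9], [6, 9, 13, 14], [7, 9, 13, 14], [8, 9, 13, 14], []],
    [[0, 10, 11, 12, 13], [1, 10], [2, 10, 11, 14], [3, 10, 12, 13, 14], [4, 10, 13, 14], [5, 10], [6, 10, 13, 14], [7, 10], [8, 10], [9, 10], []],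
    [[0, 11, 12, 13, 14], [1, 11, 12, 13, 14], [2, 11], [3, 11, 13, 14], [4, 11], [5, 11, 13, 14], [6, 11], [7, 11], [8, 11], [9, 11], [10, 11], []],
    [[0, 12, 13, 14], [1, 12], [2, 12], [3, 12], [4, 12], [5, 12], [6, 12], [7, 12], [8, 12], [9, 12], [10, 12], [11, 12], []],
    [[0, 13], [1, 13], [2, 13], [3, 13], [4, 13], [5, 13], [6, 13], [7, 13], [8, 13], [9, 13], [10, 13], [11, 13], [12, 13], []],
    [[0, 14], [1, 14], [2, 14], [3, 14], [4, 14], [5, 14], [6, 14], [7, 14], [8, 14], [9, 14], [10, 14], [11, 14], [12, 14], [13, 14], []]]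
  overlaps := [
    ([2, 2, 2], 1),
    ([4, 4, 4], 1),
    ([6, 6, 6], 1),
    ([7, 7, 7], 1),
    ([1, 1, 1], 1),
    ([8, 2, 2], 1),
    ([11, 2, 2], 1),
    ([13, 2, 2], 1),
    ([14, 2, 2], 1),
    ([8, 8, 0], 1),
    ([8, 8, 1], 1),
    ([5, 5, 4], 1),
    ([10, 7, 7], 1),
    ([12, 5, 4], 1),
    ([7, 7, 1], 1),
    ([12, 5, 2], 1),
    ([13, 5, 2], 1),
    ([10, 8, 2], 1),
    ([7, 4, 4], 1),
    ([12, 2, 1], 1),
    ([7, 1, 1], 1),
    ([6, 5, 5], 1),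
    ([7, 5, 5], 1),
    ([3, 3, 3], 1),
    ([8, 5, 2], 1),
    ([5, 5, 3], 1),
    ([5, 4, 4], 1),
    ([9, 3, 3], 1),
    ([4, 4, 1], 1),
    ([5, 5, 2], 1),
    ([7, 5, 4], 1),
    ([5, 2, 2], 1),
    ([10, 5, 2], 1),
    ([3, 3, 1], 1),
    ([4, 3, 3], 1),
    ([7, 3, 3], 1),
    ([9, 5, 2], 1),
    ([5, 4, 1], 1),
    ([7, 2, 1], 1),
    ([3, 3, 2], 1),
    ([5, 4, 2], 1),
    ([4, 1, 1], 1),
    ([8, 0, 0], 1),
    ([7, 5, 2], 1),
    ([3, 3, 0], 1),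
    ([2, 2, 1], 1),
    ([5, 2, 1], 1),
    ([0, 0, 0], 1),
    ([2, 1, 1], 1),
    ([4, 2, 1], 1),
    ([5, 3, 0], 1),
    ([4, 0, 0], 1),
    ([5, 0, 0], 1)]
  fuse := [
    ([[0, 1, 2], [1], [4], [5], [6], [7], [8], [9], [10], [11], [12], [13], [14]],
      [[4, 5, 7, 10, 11, 13], [1, 8, 11], [0, 1, 2, 5, 7, 14], [8, 11, 12, 14], [0, 1, 2, 4, 5, 6, 7, 14], [5, 7, 8, 10], [5, 9, 10, 14], [10, 11, 13], [12, 13], [9, 12], [10, 14], [13], [14]],
      [([11, 9], [9, 11]),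
        ([11, 10], [10, 11]),
        ([12, 8], [8, 12]),
        ([12, 9], [9, 12]),
        ([8, 8], []),
        ([9, 9], []),
        ([10, 10], []),
        ([11, 1], [1, 11]),
        ([11, 8], [8, 11]),
        ([12, 1], [1, 12]),
        ([10, 9], [9, 10]),
        ([11, 3], [3, 11]),
        ([12, 5], [5, 12]),
        ([9, 8], [8, 9]),
        ([10, 1], [1, 10]),
        ([11, 2], [2, 11]),
        ([12, 2], [2, 12]),
        ([3, 3], []),
        ([7, 1], [1, 7, 8, 12]),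
        ([7, 5], [5, 7, 11, 12]),
        ([9, 5], [5, 9]),
        ([8, 2], [2, 8, 11, 12]),
        ([3, 1], [1, 3, 11, 12]),
        ([5, 5], [10, 12]),
        ([10, 2], [2, 10]),
        ([9, 2], [2, 9]),
        ([3, 2], [2, 3, 7]),
        ([6, 0], [0, 6, 8, 9, 10, 12]),
        ([6, 2], [2, 6, 9, 11]),
        ([0, 0], [7, 9, 11])]),
    ([[0, 2, 3, 4], [1, 5, 7], [5, 9], [8], [9, 11], [10], [12], [13], [14]],
      [[1, 3, 5, 7, 9, 11, 12], [5, 8, 9, 12], [1, 7, 8, 9, 12, 13, 14], [5, 9, 10, 12], [1, 3, 6, 7, 8, 10, 11, 12, 13, 14], [1, 5, 7, 13, 14], [1, 5, 7, 12, 13], [8, 14], [14]],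
      [([7, 7], []),
        ([8, 6], [6, 8]),
        ([7, 3], [3, 7]),
        ([7, 6], [6, 7]),
        ([6, 6], []),
        ([4, 3], [3, 4, 7, 8]),
        ([6, 0], [0, 6, 7, 8]),
        ([6, 4], [4, 6])]),
    ([[0, 1], [2], [3], [4], [5], [6], [7], [8], [9], [10], [11], [12], [13], [14]],
      [[2, 3, 4, 6, 8, 10, 11, 13, 14], [2, 3, 5, 7, 8, 11], [0, 1, 5, 6, 7, 8, 12], [7, 9, 11], [0, 1, 2, 5, 6, 7, 9, 10, 11, 13, 14], [4, 6, 7, 14], [4, 7, 10, 11, 12, 13, 14], [4, 8, 9, 11, 14], [9, 10, 12], [9, 11, 12, 13, 14], [12], [11, 12, 13, 14], [13], [14]],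
      [([10, 10], []),
        ([12, 10], [10, 12]),
        ([13, 10], [10, 13]),
        ([10, 3], [3, 10]),
        ([12, 3], [3, 12]),
        ([13, 3], [3, 13]),
        ([10, 5], [5, 10]),
        ([10, 8], [8, 10]),
        ([10, 7], [7, 10]),
        ([12, 7], [7, 12]),
        ([8, 8], []),
        ([10, 1], [1, 10]),
        ([12, 1], [1, 12]),
        ([13, 1], [1, 13]),
        ([12, 2], [2, 12]),
        ([13, 2], [2, 13]),
        ([3, 3], [10, 12]),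
        ([8, 3], [3, 8, 12, 13]),
        ([10, 0], [0, 10]),
        ([7, 7], []),
        ([5, 5], [11, 13]),
        ([6, 6], [11, 13]),
        ([9, 2], [2, 9, 11, 12, 13]),
        ([3, 1], [1, 3, 10, 13]),
        ([1, 1], [11]),
        ([7, 4], [4, 7, 12, 13]),
        ([2, 2], [7, 10, 12]),
        ([4, 2], [2, 4, 7, 10])])]
  delta := [
    [],
    [],
    [],
    [(15, 1), (16, 1), (47, 1), (60, 1)],
    [(30, 1), (31, 1), (32, 1), (45, 1), (47, 1), (62, 1)],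
    [(0, 1), (30, 1), (47, 1), (48, 1), (62, 1)],
    [(0, 1), (15, 1), (30, 1), (31, 1), (32, 1), (46, 1), (47, 1), (48, 1), (60, 1)],
    [(0, 1), (15, 1), (30, 1), (31, 1), (45, 1), (46, 1), (48, 1), (60, 1), (62, 1)],
    [(0, 1), (15, 1), (30, 1), (31, 1), (46, 1), (60, 1), (62, 1)],
    [(32, 1), (45, 1), (60, 1), (62, 1)],
    [(0, 1), (15, 1), (16, 1), (30, 1), (31, 1), (48, 1), (60, 1), (62, 1)],
    [(32, 1), (46, 1)],
    [(32, 1)],
    [(0, 1), (15, 1), (30, 1), (31, 1), (32, 1), (48, 1), (60, 1), (62, 1)],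
    [(32, 1), (46, 1), (62, 1)]]
  sels := [
    [[]],
    [[], []],
    [[], [], []],
    [[], [], [], []],
    [[], [(0, 1), (1, 1), (2, 1), (5, 1), (7, 1), (11, 1), (12, 1), (13, 1), (16, 1), (22, 1), (24, 1), (26, 1), (28, 1), (30, 1), (31, 1), (35, 1), (36, 1), (37, 1), (39, 1), (40, 1), (41, 1), (46, 1), (47, 1), (50, 1), (52, 1), (55, 1), (57, 1), (58, 1), (59, 1), (60, 1), (62, 1), (64, 1), (65, 1), (66, 1), (67, 1), (69, 1), (71, 1), (72, 1), (74, 1), (75, 1), (76, 1), (77, 1), (80, 1), (81, 1), (83, 1), (84, 1), (87, 1), (88, 1), (89, 1), (91, 1), (92, 1), (93, 1), (94, 1), (96, 1), (100, 1), (101, 1), (103, 1), (109, 1), (110, 1), (111, 1), (113, 1), (117, 1), (118, 1)], [], [(1, 1), (2, 1), (3, 1), (7, 1), (8, 1), (14, 1), (16, 1), (17, 1), (19, 1), (21, 1), (22, 1), (23, 1), (24, 1), (25, 1), (26, 1), (28, 1), (29, 1), (30, 1), (31, 1), (34, 1), (35, 1), (39, 1), (41, 1), (43, 1), (47, 1),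 (48, 1), (51, 1), (57, 1), (58, 1), (63, 1), (67, 1), (70, 1), (71, 1), (72, 1), (73, 1), (74, 1), (75, 1), (76, 1), (77, 1), (79, 1), (80, 1), (82, 1), (84, 1), (86, 1), (87, 1), (91, 1), (93, 1), (95, 1), (96, 1), (97, 1), (103, 1), (107, 1), (110, 1), (114, 1), (116, 1)], [(1, 1), (3, 1), (4, 1), (5, 1), (6, 1), (7, 1), (12, 1), (13, 1), (16, 1), (17, 1), (22, 1), (23, 1), (25, 1), (30, 1), (31, 1), (33, 1), (35, 1), (37, 1), (39, 1), (45, 1), (46, 1), (49, 1), (50, 1), (51, 1), (52, 1), (53, 1), (54, 1), (59, 1), (60, 1), (61, 1), (62, 1), (65, 1), (66, 1), (67, 1), (69, 1), (71, 1), (72, 1), (74, 1), (75, 1), (76, 1), (78, 1), (80, 1), (81, 1), (83, 1), (87, 1), (88, 1), (89, 1), (91, 1), (93, 1), (94, 1), (96, 1), (99, 1), (100, 1), (102, 1), (104, 1), (109, 1), (111, 1), (115, 1), (116, 1), (117, 1), (118, 1)]],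
    [[(2, 1), (6, 1), (7, 1), (8, 1), (9, 1), (10, 1), (11, 1), (12, 1), (14, 1), (20, 1), (22, 1), (24, 1), (26, 1), (27, 1), (30, 1), (34, 1), (36, 1), (40, 1), (42, 1), (43, 1), (47, 1), (50, 1), (52, 1), (53, 1), (55, 1), (63, 1), (67, 1), (69, 1), (72, 1), (73, 1), (74, 1), (77, 1), (78, 1), (83, 1), (87, 1), (88, 1), (89, 1), (91, 1), (93, 1), (95, 1), (96, 1), (98, 1), (100, 1), (101, 1), (102, 1), (104, 1), (105, 1), (106, 1), (107, 1), (108, 1), (109, 1), (112, 1), (114, 1), (115, 1), (116, 1), (117, 1), (118, 1)], [(0, 1), (3, 1), (4, 1), (5, 1), (8, 1), (10, 1), (11, 1), (13, 1), (18, 1), (19, 1), (20, 1), (21, 1), (22, 1), (24, 1), (29, 1), (31, 1), (32, 1), (33, 1), (35, 1), (37, 1), (43, 1), (49, 1), (50, 1), (51, 1), (52, 1), (62, 1), (63, 1), (64, 1), (66, 1), (67, 1), (68, 1), (69, 1), (71, 1), (72, 1), (73, 1), (76, 1), (80, 1), (81, 1), (85, 1), (87, 1), (90, 1), (91, 1), (93, 1),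 (94, 1), (96, 1), (97, 1), (100, 1), (102, 1), (105, 1), (106, 1), (107, 1), (111, 1), (113, 1), (114, 1), (116, 1), (117, 1), (118, 1)], [(4, 1), (6, 1), (7, 1), (9, 1), (10, 1), (11, 1), (16, 1), (17, 1), (18, 1), (19, 1), (20, 1), (21, 1), (22, 1), (24, 1), (31, 1), (32, 1), (33, 1), (35, 1), (37, 1), (43, 1), (45, 1), (48, 1), (49, 1), (50, 1), (51, 1), (52, 1), (54, 1), (56, 1), (60, 1), (61, 1), (62, 1), (64, 1), (69, 1), (71, 1), (72, 1), (73, 1), (76, 1), (80, 1), (81, 1), (84, 1), (85, 1), (87, 1), (90, 1), (94, 1), (96, 1), (99, 1), (101, 1), (102, 1), (106, 1), (107, 1), (111, 1), (113, 1), (114, 1), (116, 1), (117, 1), (118, 1)], [(3, 1), (5, 1), (6, 1), (7, 1), (10, 1), (11, 1), (15, 1), (16, 1), (17, 1), (20, 1), (21, 1), (22, 1), (24, 1), (27, 1), (28, 1), (29, 1), (31, 1), (32, 1), (33, 1), (34, 1), (36, 1), (37, 1), (38, 1), (39, 1), (40, 1), (41, 1), (42, 1), (44, 1), (58, 1), (61,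 1), (62, 1), (63, 1), (65, 1), (67, 1), (71, 1), (72, 1), (73, 1), (76, 1), (77, 1), (78, 1), (79, 1), (80, 1), (82, 1), (83, 1), (84, 1), (86, 1), (87, 1), (91, 1), (92, 1), (94, 1), (95, 1), (96, 1), (97, 1), (99, 1), (102, 1), (103, 1), (104, 1), (105, 1), (106, 1), (107, 1), (109, 1), (110, 1), (111, 1), (112, 1), (114, 1), (116, 1)], [(0, 1), (3, 1), (5, 1), (8, 1), (10, 1), (11, 1), (14, 1), (16, 1), (17, 1), (18, 1), (19, 1), (22, 1), (23, 1), (24, 1), (25, 1), (27, 1), (28, 1), (29, 1), (32, 1), (33, 1), (36, 1), (37, 1), (40, 1), (41, 1), (42, 1), (45, 1), (46, 1), (47, 1), (48, 1), (50, 1), (52, 1), (53, 1), (55, 1), (57, 1), (58, 1), (64, 1), (65, 1), (66, 1), (69, 1), (70, 1), (78, 1), (79, 1), (81, 1), (82, 1), (85, 1), (86, 1), (88, 1), (89, 1), (92, 1), (95, 1), (96, 1), (97, 1), (98, 1), (99, 1), (100, 1), (104, 1), (106, 1), (108, 1), (109, 1), (110, 1), (112, 1), (115, 1), (117, 1),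 (118, 1)], [(5, 1), (7, 1), (13, 1), (17, 1), (56, 1), (57, 1), (62, 1), (63, 1), (70, 1), (83, 1), (91, 1), (93, 1), (101, 1)]],
    [[(1, 1), (2, 1), (5, 1), (6, 1), (9, 1), (11, 1), (13, 1), (20, 1), (23, 1), (24, 1), (26, 1), (30, 1), (31, 1), (36, 1), (37, 1), (38, 1), (40, 1), (41, 1), (42, 1), (47, 1), (48, 1), (50, 1), (54, 1), (55, 1), (59, 1), (60, 1), (61, 1), (62, 1), (63, 1), (64, 1), (65, 1), (68, 1), (71, 1), (74, 1), (76, 1), (80, 1), (81, 1), (83, 1), (86, 1), (88, 1), (89, 1), (90, 1), (93, 1), (94, 1), (96, 1), (97, 1), (98, 1), (100, 1), (101, 1), (102, 1), (108, 1), (110, 1), (112, 1), (113, 1), (116, 1), (117, 1), (118, 1)], [(1, 1), (3, 1), (6, 1), (8, 1), (9, 1), (10, 1), (12, 1), (14, 1), (15, 1), (16, 1), (17, 1), (18, 1), (20, 1), (23, 1), (24, 1), (26, 1), (29, 1), (32, 1), (34, 1), (35, 1), (36, 1), (39, 1), (45, 1), (46, 1), (48, 1), (53, 1), (55, 1), (57, 1), (60, 1), (65,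 1), (66, 1), (67, 1), (68, 1), (69, 1), (70, 1), (72, 1), (73, 1), (75, 1), (78, 1), (83, 1), (84, 1), (86, 1), (93, 1), (99, 1), (101, 1), (103, 1), (107, 1), (109, 1), (110, 1), (113, 1), (114, 1), (115, 1)], [(1, 1), (2, 1), (3, 1), (6, 1), (8, 1), (10, 1), (12, 1), (13, 1), (15, 1), (18, 1), (19, 1), (20, 1), (21, 1), (22, 1), (23, 1), (26, 1), (27, 1), (31, 1), (32, 1), (33, 1), (34, 1), (36, 1), (38, 1), (39, 1), (43, 1), (45, 1), (46, 1), (55, 1), (56, 1), (57, 1), (59, 1), (67, 1), (68, 1), (72, 1), (73, 1), (75, 1), (78, 1), (83, 1), (85, 1), (86, 1), (90, 1), (91, 1), (92, 1), (93, 1), (96, 1), (98, 1), (99, 1), (101, 1), (102, 1), (104, 1), (106, 1), (107, 1), (109, 1), (110, 1), (113, 1), (114, 1), (115, 1)], [(2, 1), (3, 1), (4, 1), (5, 1), (6, 1), (9, 1), (11, 1), (12, 1), (13, 1), (15, 1), (18, 1), (19, 1), (24, 1), (26, 1), (27, 1), (29, 1), (30, 1), (33, 1), (38, 1), (39, 1), (42, 1),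 (45, 1), (54, 1), (57, 1), (59, 1), (61, 1), (62, 1), (63, 1), (65, 1), (66, 1), (67, 1), (69, 1), (73, 1), (74, 1), (75, 1), (77, 1), (78, 1), (85, 1), (88, 1), (89, 1), (96, 1), (97, 1), (100, 1), (102, 1), (103, 1), (106, 1), (107, 1), (109, 1), (110, 1), (113, 1), (114, 1), (115, 1)], [(0, 1), (1, 1), (2, 1), (5, 1), (6, 1), (7, 1), (9, 1), (11, 1), (13, 1), (17, 1), (18, 1), (20, 1), (21, 1), (24, 1), (25, 1), (30, 1), (34, 1), (42, 1), (43, 1), (44, 1), (46, 1), (50, 1), (53, 1), (55, 1), (56, 1), (63, 1), (64, 1), (65, 1), (66, 1), (69, 1), (72, 1), (73, 1), (75, 1), (77, 1), (83, 1), (84, 1), (90, 1), (92, 1), (94, 1), (95, 1), (96, 1), (98, 1), (102, 1), (103, 1), (104, 1), (105, 1), (111, 1), (112, 1)], [(5, 1), (7, 1), (10, 1), (14, 1), (15, 1), (17, 1), (20, 1), (21, 1), (22, 1), (23, 1), (24, 1), (26, 1), (31, 1), (33, 1), (34, 1), (35, 1), (36, 1), (37, 1), (38, 1), (39, 1), (45, 1), (46,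 1), (49, 1), (50, 1), (51, 1), (52, 1), (55, 1), (56, 1), (57, 1), (58, 1), (59, 1), (63, 1), (65, 1), (66, 1), (67, 1), (69, 1), (71, 1), (72, 1), (73, 1), (76, 1), (78, 1), (80, 1), (81, 1), (83, 1), (86, 1), (87, 1), (91, 1), (92, 1), (97, 1), (99, 1), (102, 1), (103, 1), (104, 1), (105, 1), (109, 1), (110, 1), (111, 1), (115, 1), (116, 1), (117, 1), (118, 1)], [(0, 1), (1, 1), (2, 1), (3, 1), (5, 1), (6, 1), (7, 1), (8, 1), (17, 1), (18, 1), (20, 1), (22, 1), (23, 1), (26, 1), (27, 1), (32, 1), (33, 1), (34, 1), (36, 1), (38, 1), (39, 1), (43, 1), (45, 1), (46, 1), (54, 1), (55, 1), (56, 1), (60, 1), (61, 1), (62, 1), (64, 1), (67, 1), (68, 1), (72, 1), (73, 1), (75, 1), (78, 1), (83, 1), (85, 1), (86, 1), (90, 1), (92, 1), (93, 1), (96, 1), (97, 1), (98, 1), (101, 1), (104, 1), (106, 1), (107, 1), (109, 1), (110, 1), (113, 1), (114, 1), (115, 1)]],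
    [[(0, 1), (1, 1), (5, 1), (6, 1), (7, 1), (9, 1), (11, 1), (12, 1), (16, 1), (21, 1), (25, 1), (27, 1), (28, 1), (29, 1), (31, 1), (33, 1), (34, 1), (35, 1), (37, 1), (38, 1), (41, 1), (42, 1), (43, 1), (46, 1), (47, 1), (49, 1), (51, 1), (52, 1), (53, 1), (54, 1), (56, 1), (59, 1), (61, 1), (62, 1), (66, 1), (67, 1), (68, 1), (69, 1), (70, 1), (71, 1), (72, 1), (73, 1), (74, 1), (75, 1), (76, 1), (80, 1), (81, 1), (84, 1), (85, 1), (92, 1), (94, 1), (95, 1), (96, 1), (97, 1), (102, 1), (104, 1), (106, 1), (107, 1), (109, 1), (111, 1), (113, 1), (114, 1), (116, 1), (117, 1), (118, 1)], [(0, 1), (2, 1), (3, 1), (11, 1), (12, 1), (13, 1), (14, 1), (15, 1), (16, 1), (17, 1), (18, 1), (19, 1), (22, 1), (24, 1), (28, 1), (30, 1), (32, 1), (33, 1), (36, 1), (38, 1), (39, 1), (40, 1), (43, 1), (46, 1), (48, 1), (49, 1), (51, 1), (52, 1), (53, 1), (56, 1), (57, 1), (58, 1), (59, 1), (62, 1), (64, 1), (66,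 1), (69, 1), (70, 1), (72, 1), (73, 1), (75, 1), (78, 1), (79, 1), (81, 1), (82, 1), (83, 1), (91, 1), (92, 1), (94, 1), (99, 1), (101, 1), (102, 1), (103, 1), (104, 1), (106, 1), (109, 1), (110, 1), (112, 1), (113, 1), (117, 1), (118, 1)], [(1, 1), (6, 1), (7, 1), (8, 1), (10, 1), (11, 1), (13, 1), (14, 1), (16, 1), (17, 1), (18, 1), (20, 1), (21, 1), (22, 1), (24, 1), (25, 1), (28, 1), (29, 1), (30, 1), (31, 1), (35, 1), (37, 1), (39, 1), (41, 1), (42, 1), (43, 1), (44, 1), (48, 1), (53, 1), (56, 1), (57, 1), (59, 1), (62, 1), (63, 1), (65, 1), (68, 1), (70, 1), (71, 1), (75, 1), (76, 1), (77, 1), (78, 1), (79, 1), (80, 1), (82, 1), (84, 1), (86, 1), (87, 1), (91, 1), (92, 1), (93, 1), (95, 1), (96, 1), (97, 1), (100, 1), (101, 1), (103, 1), (104, 1), (106, 1), (108, 1), (109, 1), (116, 1)], [(0, 1), (3, 1), (5, 1), (9, 1), (10, 1), (12, 1), (15, 1), (16, 1), (17, 1), (18, 1), (19, 1), (22, 1), (25,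 1), (26, 1), (27, 1), (28, 1), (31, 1), (34, 1), (35, 1), (36, 1), (37, 1), (40, 1), (43, 1), (44, 1), (45, 1), (46, 1), (48, 1), (54, 1), (55, 1), (56, 1), (58, 1), (59, 1), (61, 1), (62, 1), (63, 1), (64, 1), (65, 1), (66, 1), (67, 1), (69, 1), (71, 1), (74, 1), (76, 1), (79, 1), (80, 1), (82, 1), (83, 1), (86, 1), (88, 1), (89, 1), (90, 1), (94, 1), (95, 1), (96, 1), (98, 1), (103, 1), (105, 1), (111, 1), (112, 1), (113, 1), (115, 1), (116, 1)], [(2, 1), (4, 1), (5, 1), (12, 1), (15, 1), (16, 1), (18, 1), (19, 1), (22, 1), (25, 1), (27, 1), (29, 1), (31, 1), (33, 1), (35, 1), (36, 1), (37, 1), (38, 1), (39, 1), (40, 1), (41, 1), (46, 1), (48, 1), (50, 1), (53, 1), (55, 1), (56, 1), (58, 1), (59, 1), (60, 1), (62, 1), (66, 1), (67, 1), (68, 1), (70, 1), (71, 1), (72, 1), (76, 1), (78, 1), (79, 1), (80, 1), (82, 1), (87, 1), (90, 1), (91, 1), (93, 1), (94, 1), (96, 1), (97, 1), (98, 1), (100, 1), (101,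 1), (104, 1), (105, 1), (107, 1), (109, 1), (110, 1), (111, 1), (112, 1), (114, 1), (116, 1)], [(0, 1), (2, 1), (4, 1), (8, 1), (12, 1), (14, 1), (16, 1), (17, 1), (18, 1), (20, 1), (25, 1), (26, 1), (27, 1), (28, 1), (31, 1), (34, 1), (35, 1), (36, 1), (37, 1), (38, 1), (40, 1), (43, 1), (44, 1), (45, 1), (46, 1), (48, 1), (53, 1), (54, 1), (56, 1), (58, 1), (59, 1), (60, 1), (62, 1), (64, 1), (71, 1), (74, 1), (76, 1), (79, 1), (80, 1), (82, 1), (83, 1), (86, 1), (88, 1), (89, 1), (90, 1), (92, 1), (93, 1), (94, 1), (95, 1), (98, 1), (101, 1), (104, 1), (105, 1), (106, 1), (111, 1), (112, 1), (113, 1), (115, 1), (116, 1)], [(0, 1), (1, 1), (4, 1), (8, 1), (9, 1), (13, 1), (16, 1), (20, 1), (21, 1), (25, 1), (26, 1), (30, 1), (31, 1), (32, 1), (35, 1), (37, 1), (39, 1), (42, 1), (43, 1), (45, 1), (46, 1), (49, 1), (50, 1), (51, 1), (52, 1), (55, 1), (56, 1), (59, 1), (60, 1), (61, 1), (62, 1), (63,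 1), (65, 1), (71, 1), (72, 1), (74, 1), (75, 1), (76, 1), (77, 1), (78, 1), (80, 1), (81, 1), (83, 1), (84, 1), (85, 1), (86, 1), (87, 1), (88, 1), (89, 1), (91, 1), (93, 1), (95, 1), (97, 1), (98, 1), (99, 1), (100, 1), (101, 1), (103, 1), (104, 1), (109, 1), (110, 1), (111, 1), (115, 1), (116, 1), (117, 1), (118, 1)], [(0, 1), (4, 1), (6, 1), (9, 1), (10, 1), (13, 1), (14, 1), (15, 1), (17, 1), (18, 1), (20, 1), (25, 1), (26, 1), (27, 1), (29, 1), (30, 1), (34, 1), (39, 1), (43, 1), (44, 1), (45, 1), (50, 1), (53, 1), (54, 1), (57, 1), (63, 1), (65, 1), (66, 1), (68, 1), (74, 1), (75, 1), (78, 1), (83, 1), (84, 1), (85, 1), (86, 1), (88, 1), (89, 1), (91, 1), (92, 1), (93, 1), (94, 1), (95, 1), (96, 1), (97, 1), (98, 1), (99, 1), (100, 1), (103, 1), (106, 1), (107, 1), (109, 1), (110, 1), (113, 1), (114, 1), (115, 1)]],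
    [[(0, 1), (1, 1), (2, 1), (9, 1), (10, 1), (13, 1), (15, 1), (16, 1), (18, 1), (19, 1), (20, 1), (24, 1), (25, 1), (26, 1), (31, 1), (32, 1), (33, 1), (34, 1), (35, 1), (37, 1), (38, 1), (39, 1), (41, 1), (45, 1), (49, 1), (51, 1), (52, 1), (53, 1), (57, 1), (58, 1), (61, 1), (63, 1), (64, 1), (65, 1), (66, 1), (67, 1), (70, 1), (71, 1), (72, 1), (74, 1), (75, 1), (76, 1), (78, 1), (80, 1), (81, 1), (86, 1), (88, 1), (89, 1), (90, 1), (91, 1), (92, 1), (94, 1), (99, 1), (101, 1), (102, 1), (103, 1), (104, 1), (106, 1), (110, 1), (111, 1), (115, 1), (116, 1), (117, 1), (118, 1)], [(1, 1), (2, 1), (3, 1), (5, 1), (6, 1), (8, 1), (12, 1), (13, 1), (16, 1), (17, 1), (20, 1), (22, 1), (24, 1), (25, 1), (26, 1), (28, 1), (29, 1), (30, 1), (32, 1), (34, 1), (36, 1), (38, 1), (40, 1), (41, 1), (44, 1), (45, 1), (46, 1), (48, 1), (49, 1), (50, 1), (51, 1), (52, 1), (53, 1), (54, 1), (55, 1), (56, 1), (63,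 1), (64, 1), (65, 1), (66, 1), (67, 1), (68, 1), (69, 1), (70, 1), (72, 1), (74, 1), (79, 1), (81, 1), (82, 1), (84, 1), (85, 1), (86, 1), (88, 1), (89, 1), (92, 1), (94, 1), (97, 1), (99, 1), (101, 1), (102, 1), (103, 1), (104, 1), (107, 1), (112, 1), (114, 1), (115, 1), (117, 1), (118, 1)], [(1, 1), (3, 1), (4, 1), (5, 1), (8, 1), (9, 1), (10, 1), (11, 1), (12, 1), (13, 1), (15, 1), (17, 1), (19, 1), (20, 1), (21, 1), (22, 1), (23, 1), (24, 1), (29, 1), (30, 1), (32, 1), (34, 1), (36, 1), (39, 1), (42, 1), (43, 1), (46, 1), (53, 1), (56, 1), (57, 1), (59, 1), (60, 1), (62, 1), (63, 1), (66, 1), (69, 1), (72, 1), (74, 1), (77, 1), (83, 1), (86, 1), (88, 1), (89, 1), (90, 1), (98, 1), (101, 1), (103, 1), (105, 1)], [(0, 1), (3, 1), (5, 1), (9, 1), (12, 1), (13, 1), (14, 1), (18, 1), (21, 1), (23, 1), (24, 1), (25, 1), (29, 1), (31, 1), (32, 1), (35, 1), (37, 1), (43, 1), (49, 1), (50, 1), (51, 1), (52,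 1), (53, 1), (54, 1), (55, 1), (58, 1), (59, 1), (61, 1), (62, 1), (63, 1), (64, 1), (66, 1), (68, 1), (69, 1), (71, 1), (75, 1), (76, 1), (80, 1), (81, 1), (83, 1), (87, 1), (90, 1), (93, 1), (94, 1), (96, 1), (97, 1), (100, 1), (101, 1), (102, 1), (103, 1), (105, 1), (106, 1), (107, 1), (111, 1), (113, 1), (114, 1), (116, 1), (117, 1), (118, 1)], [(1, 1), (4, 1), (6, 1), (9, 1), (16, 1), (22, 1), (23, 1), (26, 1), (30, 1), (31, 1), (33, 1), (35, 1), (37, 1), (39, 1), (45, 1), (46, 1), (49, 1), (50, 1), (51, 1), (52, 1), (56, 1), (57, 1), (60, 1), (63, 1), (64, 1), (66, 1), (67, 1), (69, 1), (71, 1), (72, 1), (74, 1), (75, 1), (76, 1), (78, 1), (80, 1), (81, 1), (85, 1), (87, 1), (88, 1), (89, 1), (98, 1), (99, 1), (100, 1), (101, 1), (102, 1), (104, 1), (109, 1), (110, 1), (111, 1), (115, 1), (116, 1), (117, 1), (118, 1)], [(0, 1), (3, 1), (14, 1), (18, 1), (21, 1), (24, 1), (25, 1), (27, 1), (29,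 1), (31, 1), (32, 1), (35, 1), (37, 1), (43, 1), (49, 1), (50, 1), (51, 1), (52, 1), (53, 1), (55, 1), (58, 1), (60, 1), (63, 1), (64, 1), (65, 1), (66, 1), (68, 1), (69, 1), (71, 1), (75, 1), (76, 1), (80, 1), (81, 1), (83, 1), (85, 1), (87, 1), (90, 1), (91, 1), (94, 1), (96, 1), (97, 1), (98, 1), (100, 1), (101, 1), (102, 1), (103, 1), (105, 1), (106, 1), (107, 1), (111, 1), (113, 1), (114, 1), (116, 1), (117, 1), (118, 1)], [(7, 1), (8, 1), (17, 1), (24, 1), (53, 1), (54, 1), (55, 1), (56, 1), (60, 1), (61, 1), (64, 1), (65, 1), (68, 1), (69, 1), (95, 1), (96, 1), (103, 1), (104, 1), (105, 1), (106, 1)], [(0, 1), (1, 1), (2, 1), (3, 1), (12, 1), (14, 1), (16, 1), (17, 1), (18, 1), (20, 1), (22, 1), (26, 1), (27, 1), (28, 1), (30, 1), (31, 1), (34, 1), (35, 1), (36, 1), (37, 1), (38, 1), (40, 1), (41, 1), (43, 1), (44, 1), (45, 1), (46, 1), (48, 1), (54, 1), (55, 1), (58, 1), (59, 1), (60, 1), (63,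 1), (64, 1), (67, 1), (70, 1), (71, 1), (72, 1), (74, 1), (75, 1), (76, 1), (79, 1), (80, 1), (82, 1), (83, 1), (87, 1), (88, 1), (89, 1), (90, 1), (91, 1), (93, 1), (95, 1), (96, 1), (98, 1), (99, 1), (101, 1), (104, 1), (105, 1), (106, 1), (111, 1), (112, 1), (113, 1), (115, 1), (116, 1)], [(7, 1), (54, 1), (55, 1), (57, 1), (59, 1), (61, 1), (62, 1), (83, 1), (93, 1)]],
    [[(0, 1), (4, 1), (6, 1), (7, 1), (12, 1), (13, 1), (14, 1), (24, 1), (27, 1), (30, 1), (33, 1), (34, 1), (36, 1), (37, 1), (40, 1), (41, 1), (42, 1), (43, 1), (44, 1), (46, 1), (50, 1), (54, 1), (56, 1), (58, 1), (59, 1), (60, 1), (61, 1), (62, 1), (63, 1), (64, 1), (68, 1), (69, 1), (70, 1), (72, 1), (73, 1), (74, 1), (77, 1), (78, 1), (83, 1), (84, 1), (85, 1), (87, 1), (90, 1), (91, 1), (99, 1), (101, 1), (104, 1), (105, 1), (111, 1), (112, 1)], [(0, 1), (1, 1), (2, 1), (4, 1), (9, 1), (11, 1), (12, 1), (13, 1), (14, 1), (16,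 1), (20, 1), (21, 1), (26, 1), (27, 1), (28, 1), (31, 1), (34, 1), (35, 1), (36, 1), (38, 1), (40, 1), (43, 1), (44, 1), (45, 1), (46, 1), (48, 1), (54, 1), (55, 1), (56, 1), (57, 1), (59, 1), (63, 1), (66, 1), (71, 1), (73, 1), (74, 1), (76, 1), (79, 1), (80, 1), (82, 1), (85, 1), (86, 1), (88, 1), (89, 1), (90, 1), (93, 1), (95, 1), (96, 1), (100, 1), (104, 1), (105, 1), (106, 1), (111, 1), (112, 1), (113, 1), (115, 1), (116, 1)], [(0, 1), (6, 1), (9, 1), (10, 1), (11, 1), (12, 1), (13, 1), (17, 1), (18, 1), (20, 1), (24, 1), (25, 1), (30, 1), (34, 1), (36, 1), (40, 1), (42, 1), (43, 1), (44, 1), (46, 1), (50, 1), (53, 1), (59, 1), (60, 1), (62, 1), (66, 1), (69, 1), (72, 1), (73, 1), (75, 1), (77, 1), (83, 1), (84, 1), (90, 1), (94, 1), (95, 1), (96, 1), (100, 1), (101, 1), (102, 1), (103, 1), (104, 1), (105, 1), (111, 1), (112, 1)], [(1, 1), (3, 1), (4, 1), (5, 1), (6, 1), (8, 1), (9, 1), (10, 1),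 (13, 1), (16, 1), (22, 1), (23, 1), (26, 1), (30, 1), (31, 1), (33, 1), (34, 1), (35, 1), (37, 1), (39, 1), (45, 1), (46, 1), (49, 1), (50, 1), (51, 1), (52, 1), (54, 1), (56, 1), (57, 1), (58, 1), (59, 1), (60, 1), (61, 1), (65, 1), (66, 1), (67, 1), (69, 1), (71, 1), (72, 1), (74, 1), (75, 1), (76, 1), (78, 1), (80, 1), (81, 1), (85, 1), (87, 1), (88, 1), (89, 1), (92, 1), (94, 1), (95, 1), (98, 1), (99, 1), (100, 1), (102, 1), (103, 1), (109, 1), (110, 1), (111, 1), (115, 1), (116, 1), (117, 1), (118, 1)], [(0, 1), (3, 1), (5, 1), (7, 1), (10, 1), (13, 1), (14, 1), (17, 1), (18, 1), (21, 1), (24, 1), (26, 1), (27, 1), (29, 1), (31, 1), (32, 1), (35, 1), (37, 1), (43, 1), (49, 1), (50, 1), (51, 1), (52, 1), (53, 1), (54, 1), (57, 1), (59, 1), (61, 1), (63, 1), (65, 1), (66, 1), (68, 1), (69, 1), (71, 1), (75, 1), (76, 1), (80, 1), (81, 1), (85, 1), (87, 1), (90, 1), (91, 1), (92, 1), (93, 1), (94,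 1), (96, 1), (97, 1), (98, 1), (100, 1), (101, 1), (102, 1), (103, 1), (105, 1), (106, 1), (107, 1), (111, 1), (113, 1), (114, 1), (116, 1), (117, 1), (118, 1)], [(11, 1), (13, 1), (58, 1), (91, 1)], [(0, 1), (1, 1), (2, 1), (3, 1), (5, 1), (6, 1), (12, 1), (14, 1), (15, 1), (16, 1), (18, 1), (24, 1), (27, 1), (29, 1), (31, 1), (32, 1), (35, 1), (36, 1), (37, 1), (43, 1), (49, 1), (50, 1), (51, 1), (52, 1), (55, 1), (56, 1), (58, 1), (59, 1), (62, 1), (65, 1), (66, 1), (68, 1), (69, 1), (71, 1), (75, 1), (76, 1), (80, 1), (81, 1), (85, 1), (87, 1), (90, 1), (92, 1), (96, 1), (99, 1), (102, 1), (103, 1), (105, 1), (106, 1), (107, 1), (111, 1), (113, 1), (114, 1), (116, 1), (117, 1), (118, 1)], [(0, 1), (1, 1), (3, 1), (6, 1), (7, 1), (9, 1), (11, 1), (13, 1), (14, 1), (24, 1), (25, 1), (27, 1), (29, 1), (31, 1), (32, 1), (35, 1), (37, 1), (43, 1), (49, 1), (50, 1), (51, 1), (52, 1), (57, 1), (59, 1),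 (63, 1), (66, 1), (68, 1), (69, 1), (71, 1), (73, 1), (75, 1), (76, 1), (80, 1), (81, 1), (83, 1), (87, 1), (90, 1), (92, 1), (95, 1), (96, 1), (97, 1), (98, 1), (102, 1), (103, 1), (105, 1), (106, 1), (107, 1), (111, 1), (113, 1), (114, 1), (116, 1), (117, 1), (118, 1)], [(0, 1), (3, 1), (6, 1), (7, 1), (8, 1), (9, 1), (10, 1), (13, 1), (14, 1), (18, 1), (21, 1), (24, 1), (25, 1), (27, 1), (29, 1), (31, 1), (32, 1), (35, 1), (37, 1), (43, 1), (49, 1), (50, 1), (51, 1), (52, 1), (55, 1), (56, 1), (58, 1), (62, 1), (64, 1), (66, 1), (68, 1), (69, 1), (71, 1), (75, 1), (76, 1), (80, 1), (81, 1), (83, 1), (87, 1), (90, 1), (91, 1), (94, 1), (96, 1), (97, 1), (98, 1), (100, 1), (102, 1), (103, 1), (105, 1), (106, 1), (107, 1), (111, 1), (113, 1), (114, 1), (116, 1), (117, 1), (118, 1)], [(13, 1), (58, 1), (91, 1)]],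
    [[(2, 1), (4, 1), (5, 1), (7, 1), (9, 1), (12, 1), (13, 1), (18, 1), (20, 1), (21, 1), (24, 1), (25, 1), (27, 1), (28, 1), (29, 1), (31, 1), (32, 1), (33, 1), (34, 1), (35, 1), (36, 1), (37, 1), (38, 1), (39, 1), (40, 1), (41, 1), (42, 1), (44, 1), (48, 1), (54, 1), (56, 1), (57, 1), (59, 1), (60, 1), (61, 1), (64, 1), (66, 1), (68, 1), (70, 1), (71, 1), (75, 1), (76, 1), (78, 1), (79, 1), (80, 1), (82, 1), (85, 1), (87, 1), (91, 1), (92, 1), (93, 1), (94, 1), (96, 1), (97, 1), (100, 1), (103, 1), (107, 1), (109, 1), (110, 1), (111, 1), (112, 1), (114, 1), (116, 1)], [(1, 1), (3, 1), (5, 1), (6, 1), (8, 1), (9, 1), (10, 1), (14, 1), (55, 1), (59, 1), (62, 1), (66, 1), (67, 1), (92, 1), (94, 1), (100, 1)], [(2, 1), (3, 1), (4, 1), (5, 1), (9, 1), (12, 1), (13, 1), (14, 1), (15, 1), (16, 1), (20, 1), (21, 1), (24, 1), (25, 1), (26, 1), (27, 1), (29, 1), (30, 1), (32, 1), (39, 1), (42, 1), (43, 1),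 (45, 1), (46, 1), (54, 1), (56, 1), (58, 1), (62, 1), (63, 1), (64, 1), (65, 1), (68, 1), (72, 1), (74, 1), (77, 1), (78, 1), (83, 1), (84, 1), (86, 1), (88, 1), (89, 1), (90, 1), (91, 1), (92, 1), (97, 1), (100, 1), (101, 1), (102, 1), (105, 1), (107, 1), (109, 1), (110, 1), (113, 1), (114, 1), (115, 1)], [(0, 1), (2, 1), (6, 1), (7, 1), (8, 1), (12, 1), (14, 1), (16, 1), (17, 1), (20, 1), (22, 1), (26, 1), (27, 1), (28, 1), (30, 1), (31, 1), (34, 1), (36, 1), (37, 1), (38, 1), (40, 1), (41, 1), (43, 1), (44, 1), (45, 1), (46, 1), (48, 1), (55, 1), (56, 1), (58, 1), (59, 1), (60, 1), (61, 1), (64, 1), (65, 1), (67, 1), (70, 1), (71, 1), (72, 1), (74, 1), (75, 1), (76, 1), (79, 1), (80, 1), (82, 1), (83, 1), (87, 1), (88, 1), (89, 1), (90, 1), (91, 1), (92, 1), (94, 1), (95, 1), (96, 1), (98, 1), (99, 1), (105, 1), (106, 1), (111, 1), (112, 1), (113, 1), (115, 1), (116, 1)], [(0, 1), (6, 1), (8, 1),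 (9, 1), (11, 1), (12, 1), (14, 1), (24, 1), (25, 1), (27, 1), (29, 1), (30, 1), (31, 1), (32, 1), (35, 1), (37, 1), (43, 1), (49, 1), (50, 1), (51, 1), (52, 1), (55, 1), (56, 1), (60, 1), (64, 1), (66, 1), (68, 1), (69, 1), (71, 1), (73, 1), (75, 1), (76, 1), (80, 1), (81, 1), (83, 1), (87, 1), (90, 1), (94, 1), (95, 1), (97, 1), (98, 1), (100, 1), (102, 1), (103, 1), (105, 1), (106, 1), (107, 1), (111, 1), (113, 1), (114, 1), (116, 1), (117, 1), (118, 1)], [(5, 1), (10, 1), (22, 1), (54, 1), (55, 1), (59, 1), (61, 1), (62, 1), (65, 1), (93, 1)], [(0, 1), (1, 1), (3, 1), (6, 1), (8, 1), (10, 1), (13, 1), (14, 1), (15, 1), (16, 1), (18, 1), (21, 1), (24, 1), (27, 1), (29, 1), (31, 1), (35, 1), (37, 1), (43, 1), (49, 1), (50, 1), (51, 1), (52, 1), (53, 1), (54, 1), (55, 1), (57, 1), (58, 1), (59, 1), (60, 1), (61, 1), (63, 1), (64, 1), (68, 1), (69, 1), (71, 1), (75, 1), (76, 1), (80, 1), (81, 1), (85,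 1), (87, 1), (90, 1), (93, 1), (96, 1), (98, 1), (99, 1), (101, 1), (102, 1), (103, 1), (105, 1), (106, 1), (107, 1), (111, 1), (113, 1), (114, 1), (116, 1), (117, 1), (118, 1)], [(3, 1), (6, 1), (13, 1), (20, 1), (56, 1), (59, 1), (62, 1), (63, 1), (65, 1), (84, 1), (95, 1), (100, 1), (101, 1)], [(5, 1), (6, 1), (8, 1), (9, 1), (10, 1), (13, 1), (56, 1), (63, 1), (93, 1), (101, 1)], [(6, 1), (12, 1), (54, 1), (55, 1), (56, 1), (61, 1), (63, 1), (93, 1)], [(5, 1), (6, 1), (8, 1), (10, 1), (13, 1), (56, 1), (63, 1), (93, 1), (101, 1)]],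
    [[(2, 1), (3, 1), (9, 1), (12, 1), (13, 1), (15, 1), (16, 1), (18, 1), (20, 1), (21, 1), (22, 1), (26, 1), (28, 1), (30, 1), (31, 1), (33, 1), (34, 1), (35, 1), (36, 1), (37, 1), (38, 1), (40, 1), (41, 1), (43, 1), (44, 1), (45, 1), (46, 1), (48, 1), (53, 1), (58, 1), (61, 1), (63, 1), (64, 1), (65, 1), (67, 1), (70, 1), (71, 1), (72, 1), (74, 1), (75, 1), (76, 1), (79, 1), (80, 1), (82, 1), (83, 1), (84, 1), (85, 1), (86, 1), (87, 1), (88, 1), (89, 1), (90, 1), (91, 1), (92, 1), (93, 1), (94, 1), (95, 1), (96, 1), (100, 1), (101, 1), (103, 1), (104, 1), (105, 1), (106, 1), (109, 1), (111, 1), (112, 1), (113, 1), (115, 1), (116, 1)], [(0, 1), (2, 1), (3, 1), (4, 1), (5, 1), (7, 1), (8, 1), (10, 1), (12, 1), (14, 1), (16, 1), (17, 1), (18, 1), (19, 1), (20, 1), (22, 1), (26, 1), (28, 1), (30, 1), (31, 1), (33, 1), (34, 1), (35, 1), (36, 1), (37, 1), (38, 1), (40, 1), (41, 1), (43, 1), (44, 1), (45,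 1), (46, 1), (48, 1), (55, 1), (56, 1), (58, 1), (60, 1), (61, 1), (62, 1), (66, 1), (70, 1), (71, 1), (72, 1), (74, 1), (75, 1), (76, 1), (79, 1), (80, 1), (82, 1), (83, 1), (85, 1), (86, 1), (87, 1), (88, 1), (89, 1), (90, 1), (91, 1), (94, 1), (95, 1), (96, 1), (99, 1), (100, 1), (103, 1), (104, 1), (105, 1), (106, 1), (111, 1), (112, 1), (113, 1), (115, 1), (116, 1)], [(0, 1), (1, 1), (5, 1), (7, 1), (8, 1), (12, 1), (13, 1), (19, 1), (53, 1), (55, 1), (94, 1), (100, 1), (102, 1)], [(0, 1), (3, 1), (5, 1), (7, 1), (9, 1), (12, 1), (13, 1), (14, 1), (18, 1), (21, 1), (24, 1), (25, 1), (29, 1), (31, 1), (32, 1), (35, 1), (37, 1), (43, 1), (49, 1), (50, 1), (51, 1), (52, 1), (53, 1), (54, 1), (57, 1), (58, 1), (61, 1), (62, 1), (63, 1), (66, 1), (68, 1), (69, 1), (71, 1), (75, 1), (76, 1), (80, 1), (81, 1), (83, 1), (87, 1), (90, 1), (92, 1), (94, 1), (95, 1), (96, 1), (97, 1), (101, 1), (102, 1), (105,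 1), (106, 1), (107, 1), (111, 1), (113, 1), (114, 1), (116, 1), (117, 1), (118, 1)], [(1, 1), (7, 1), (53, 1), (54, 1), (61, 1), (100, 1)], [(0, 1), (3, 1), (5, 1), (7, 1), (8, 1), (10, 1), (14, 1), (17, 1), (18, 1), (21, 1), (24, 1), (27, 1), (29, 1), (31, 1), (32, 1), (35, 1), (37, 1), (43, 1), (49, 1), (50, 1), (51, 1), (52, 1), (53, 1), (54, 1), (55, 1), (58, 1), (60, 1), (61, 1), (63, 1), (64, 1), (65, 1), (66, 1), (68, 1), (69, 1), (71, 1), (75, 1), (76, 1), (80, 1), (81, 1), (85, 1), (87, 1), (90, 1), (92, 1), (93, 1), (94, 1), (96, 1), (97, 1), (98, 1), (100, 1), (101, 1), (102, 1), (103, 1), (105, 1), (106, 1), (107, 1), (111, 1), (113, 1), (114, 1), (116, 1), (117, 1), (118, 1)], [(1, 1), (5, 1), (6, 1), (7, 1), (8, 1), (15, 1), (17, 1), (53, 1), (54, 1), (61, 1), (62, 1), (93, 1), (94, 1), (97, 1), (99, 1), (100, 1)], [(6, 1), (8, 1), (13, 1), (18, 1), (53, 1), (56, 1), (57, 1), (63, 1), (93,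 1), (95, 1), (101, 1)], [(8, 1), (17, 1), (62, 1), (93, 1)], [(8, 1), (12, 1), (13, 1), (54, 1), (55, 1), (61, 1), (98, 1)], [(7, 1), (13, 1), (53, 1), (66, 1), (92, 1)], [(5, 1), (10, 1), (91, 1)]],
    [[(2, 1), (3, 1), (4, 1), (5, 1), (8, 1), (10, 1), (12, 1), (15, 1), (16, 1), (20, 1), (22, 1), (24, 1), (27, 1), (29, 1), (30, 1), (31, 1), (32, 1), (35, 1), (37, 1), (43, 1), (49, 1), (50, 1), (51, 1), (52, 1), (53, 1), (54, 1), (57, 1), (58, 1), (61, 1), (66, 1), (67, 1), (68, 1), (71, 1), (72, 1), (74, 1), (75, 1), (76, 1), (80, 1), (81, 1), (85, 1), (87, 1), (90, 1), (93, 1), (94, 1), (96, 1), (97, 1), (98, 1), (101, 1), (102, 1), (104, 1), (107, 1), (111, 1), (113, 1), (114, 1), (116, 1), (117, 1), (118, 1)], [(6, 1), (13, 1), (14, 1), (54, 1), (56, 1), (59, 1), (61, 1), (62, 1), (63, 1), (65, 1), (84, 1), (101, 1)], [(0, 1)], [(5, 1), (6, 1), (7, 1), (10, 1), (12, 1), (13, 1), (19, 1), (21, 1),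 (55, 1), (56, 1), (57, 1), (60, 1), (63, 1), (64, 1), (93, 1), (101, 1)], [(5, 1), (6, 1), (13, 1), (17, 1), (62, 1), (93, 1), (99, 1)], [(5, 1), (6, 1), (7, 1), (8, 1), (10, 1), (13, 1), (21, 1), (54, 1), (56, 1), (57, 1), (60, 1), (61, 1), (63, 1), (64, 1), (93, 1), (101, 1)], [(6, 1), (15, 1)], [(1, 1), (6, 1), (7, 1), (13, 1), (53, 1), (54, 1), (61, 1), (94, 1), (100, 1)], [(5, 1)], [(13, 1)], [(8, 1), (12, 1), (54, 1), (55, 1), (61, 1)], [(6, 1)], [(5, 1), (10, 1)]],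
    [[(1, 1), (3, 1), (4, 1), (5, 1), (7, 1), (8, 1), (9, 1), (10, 1), (13, 1), (16, 1), (54, 1), (55, 1), (56, 1), (61, 1), (63, 1), (65, 1), (66, 1), (67, 1), (84, 1), (92, 1), (94, 1), (100, 1), (101, 1), (103, 1), (105, 1)], [(1, 1), (3, 1), (4, 1), (5, 1), (8, 1), (9, 1), (10, 1), (13, 1), (54, 1), (55, 1), (56, 1), (61, 1), (63, 1), (65, 1), (66, 1), (67, 1), (84, 1), (92, 1), (94, 1), (100, 1), (101, 1)], [(7, 1), (16, 1), (53, 1), (60, 1), (64, 1), (68, 1), (95, 1), (103, 1), (105, 1)], [(7, 1), (64, 1), (95, 1), (100, 1), (103, 1)], [(7, 1), (53, 1), (54, 1), (61, 1), (100, 1)], [(7, 1), (54, 1), (60, 1), (61, 1), (64, 1)], [(7, 1), (16, 1), (92, 1)], [(54, 1), (61, 1), (95, 1), (100, 1)], [(7, 1), (60, 1), (92, 1)], [(53, 1), (92, 1)], [(7, 1), (61, 1)], [(7, 1), (92, 1)], [(7, 1)], [(6, 1), (7, 1), (8, 1), (13, 1), (56, 1), (57, 1), (63, 1), (93, 1), (101, 1)]],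
    [[(1, 1), (2, 1), (3, 1), (7, 1), (13, 1), (15, 1), (53, 1), (54, 1), (55, 1), (61, 1), (62, 1), (65, 1), (84, 1), (94, 1), (100, 1), (104, 1), (106, 1)], [(1, 1), (3, 1), (6, 1), (7, 1), (13, 1), (53, 1), (54, 1), (55, 1), (61, 1), (62, 1), (65, 1), (84, 1), (93, 1), (94, 1), (100, 1)], [(2, 1), (6, 1), (8, 1), (15, 1), (54, 1), (55, 1), (56, 1), (61, 1), (62, 1), (65, 1), (69, 1), (96, 1), (104, 1), (106, 1)], [(1, 1), (3, 1), (6, 1), (7, 1), (13, 1), (53, 1), (55, 1), (65, 1), (93, 1), (94, 1), (100, 1), (104, 1)], [(1, 1), (3, 1), (6, 1), (7, 1), (8, 1), (13, 1), (53, 1), (54, 1), (56, 1), (61, 1), (94, 1), (96, 1), (100, 1)], [(54, 1), (55, 1), (61, 1), (62, 1), (65, 1), (93, 1)], [(2, 1), (6, 1), (15, 1)], [(1, 1), (3, 1), (6, 1), (7, 1), (13, 1), (53, 1), (54, 1), (61, 1), (94, 1), (100, 1)], [(8, 1), (62, 1), (93, 1)], [(56, 1), (93, 1)], [(8, 1), (54, 1), (55, 1), (61, 1)], [(8, 1), (93,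 1)], [(8, 1)], [(54, 1), (61, 1)], [(6, 1), (13, 1), (54, 1), (55, 1), (56, 1), (59, 1), (61, 1), (63, 1), (93, 1), (101, 1)]]]

/-- The equations written out. -/
def lit : List (Bool × Form) := [
  (true, [(182, 1)]),
  (true, [(169, 1), (199, 1)]),
  (true, [(186, 1), (216, 1)]),
  (true, [(187, 1), (217, 1)]),
  (true, [(151, 1), (181, 1), (196, 1)]),
  (true, [(188, 1)]),
  (true, [(191, 1)]),
  (true, [(207, 1)]),
  (true, [(222, 1)]),
  (true, [(158, 1), (160, 1)]),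
  (true, [(188, 1), (192, 1)]),
  (true, [(140, 1), (144, 1)]),
  (true, [(190, 1), (220, 1)]),
  (true, [(189, 1)]),
  (true, [(181, 1), (211, 1), (217, 1), (224, 1)]),
  (true, [(186, 1), (191, 1)]),
  (true, [(201, 1), (206, 1)]),
  (true, [(173, 1), (218, 1)]),
  (true, [(172, 1), (199, 1), (202, 1), (208, 1)]),
  (true, [(183, 1), (185, 1), (190, 1)]),
  (true, [(157, 1), (187, 1), (202, 1), (211, 1), (224, 1)]),
  (true, [(185, 1), (192, 1), (200, 1), (207, 1), (208, 1)]),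
  (true, [(155, 1), (160, 1), (215, 1), (220, 1), (224, 1)]),
  (true, [(123, 1), (168, 1), (198, 1), (206, 1), (208, 1), (221, 1), (223, 1), (224, 1)]),
  (true, [(126, 1), (173, 1), (197, 1), (201, 1), (206, 1), (212, 1), (216, 1), (221, 1)]),
  (true, [(125, 1), (128, 1), (170, 1), (173, 1), (176, 1), (206, 1), (208, 1), (221, 1), (223, 1), (224, 1)]),
  (true, [(139, 1), (144, 1), (170, 1), (200, 1), (208, 1), (224, 1)]),
  (true, [(143, 1), (168, 1), (174, 1), (176, 1), (198, 1), (204, 1), (208, 1), (221, 1)]),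
  (true, [(109, 1), (112, 1), (166, 1), (169, 1), (172, 1), (176, 1), (191, 1), (196, 1), (202, 1), (214, 1), (217, 1), (223, 1), (224, 1)]),
  (true, [(95, 1), (96, 1), (170, 1), (171, 1), (176, 1), (186, 1), (192, 1), (206, 1), (208, 1), (216, 1), (221, 1), (222, 1), (224, 1)]),
  (true, [(142, 1), (154, 1), (159, 1), (200, 1), (204, 1), (208, 1), (214, 1), (219, 1), (220, 1), (223, 1), (224, 1)]),
  (true, [(92, 1), (96, 1), (167, 1), (171, 1), (176, 1), (185, 1), (191, 1), (192, 1), (221, 1), (224, 1)]),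
  (true, [(156, 1), (170, 1), (171, 1), (175, 1), (201, 1), (206, 1), (208, 1), (215, 1), (223, 1), (224, 1)]),
  (true, [(121, 1), (166, 1), (168, 1), (176, 1), (183, 1), (196, 1), (206, 1), (221, 1), (223, 1)]),
  (true, [(124, 1), (138, 1), (144, 1), (169, 1), (176, 1), (198, 1), (199, 1), (204, 1), (213, 1), (219, 1), (221, 1), (224, 1)]),
  (true, [(127, 1), (153, 1), (160, 1), (172, 1), (191, 1), (192, 1), (202, 1), (206, 1), (208, 1), (213, 1), (220, 1), (221, 1), (223, 1)]),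
  (true, [(141, 1), (170, 1), (171, 1), (174, 1), (185, 1), (186, 1), (191, 1), (201, 1), (206, 1), (208, 1), (216, 1), (221, 1), (223, 1), (224, 1)]),
  (true, [(110, 1), (136, 1), (142, 1), (159, 1), (160, 1), (170, 1), (174, 1), (175, 1), (199, 1), (202, 1), (214, 1), (215, 1), (217, 1), (221, 1), (223, 1), (224, 1)]),
  (true, [(108, 1), (110, 1), (155, 1), (157, 1), (160, 1), (181, 1), (183, 1), (185, 1), (190, 1), (196, 1), (198, 1), (200, 1), (205, 1), (211, 1), (212, 1), (215, 1), (220, 1), (222, 1), (223, 1), (224, 1)]),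
  (true, [(93, 1), (96, 1), (122, 1), (167, 1), (183, 1), (188, 1), (191, 1), (197, 1), (198, 1), (201, 1), (208, 1), (213, 1), (218, 1), (221, 1)]),
  (true, [(94, 1), (137, 1), (141, 1), (169, 1), (170, 1), (171, 1), (201, 1), (204, 1), (206, 1), (215, 1), (221, 1), (222, 1)]),
  (true, [(106, 1), (112, 1), (154, 1), (166, 1), (172, 1), (176, 1), (184, 1), (190, 1), (192, 1), (199, 1), (207, 1), (208, 1), (211, 1), (217, 1), (220, 1), (223, 1), (224, 1)]),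
  (true, [(123, 1), (124, 1), (127, 1), (150, 1), (158, 1), (160, 1), (172, 1), (173, 1), (175, 1), (190, 1), (199, 1), (203, 1), (205, 1), (206, 1), (207, 1), (208, 1), (214, 1), (217, 1), (221, 1), (224, 1)]),
  (true, [(111, 1), (152, 1), (156, 1), (172, 1), (185, 1), (186, 1), (190, 1), (200, 1), (201, 1), (208, 1), (212, 1), (215, 1), (220, 1)]),
  (true, [(108, 1), (112, 1), (120, 1), (157, 1), (165, 1), (168, 1), (172, 1), (175, 1), (176, 1), (187, 1), (188, 1), (190, 1), (191, 1), (192, 1), (195, 1), (198, 1), (202, 1), (205, 1), (207, 1), (217, 1), (218, 1), (220, 1), (222, 1), (223, 1)]),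
  (true, [(47, 1), (48, 1), (77, 1), (78, 1), (80, 1), (95, 1), (96, 1), (125, 1), (128, 1), (152, 1), (153, 1), (155, 1), (160, 1), (170, 1), (173, 1), (175, 1), (181, 1), (183, 1), (185, 1), (190, 1), (203, 1), (205, 1), (207, 1), (208, 1), (213, 1), (215, 1), (216, 1), (221, 1), (222, 1), (223, 1), (224, 1)]),
  (true, [(78, 1), (91, 1), (93, 1), (95, 1), (125, 1), (126, 1), (155, 1), (156, 1), (158, 1), (166, 1), (168, 1), (171, 1), (185, 1), (188, 1), (197, 1), (198, 1), (201, 1), (203, 1), (206, 1), (207, 1), (212, 1), (213, 1), (215, 1), (216, 1), (223, 1)]),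
  (true, [(45, 1), (60, 1), (105, 1), (109, 1), (112, 1), (120, 1), (142, 1), (144, 1), (150, 1), (158, 1), (160, 1), (169, 1), (173, 1), (175, 1), (176, 1), (180, 1), (188, 1), (189, 1), (199, 1), (202, 1), (207, 1), (208, 1), (218, 1), (220, 1), (221, 1)]),
  (true, [(46, 1), (48, 1), (76, 1), (78, 1), (80, 1), (125, 1), (128, 1), (151, 1), (152, 1), (153, 1), (155, 1), (160, 1), (173, 1), (175, 1), (182, 1), (183, 1), (185, 1), (190, 1), (191, 1), (192, 1), (197, 1), (198, 1), (203, 1), (205, 1), (213, 1), (221, 1), (223, 1)]),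
  (true, [(63, 1), (79, 1), (107, 1), (108, 1), (110, 1), (140, 1), (154, 1), (155, 1), (157, 1), (159, 1), (160, 1), (166, 1), (167, 1), (172, 1), (183, 1), (185, 1), (190, 1), (191, 1), (198, 1), (200, 1), (206, 1), (211, 1), (212, 1), (213, 1), (217, 1), (219, 1), (220, 1), (221, 1), (224, 1)]),
  (true, [(93, 1), (110, 1), (111, 1), (120, 1), (123, 1), (126, 1), (138, 1), (142, 1), (143, 1), (156, 1), (159, 1), (160, 1), (165, 1), (170, 1), (173, 1), (174, 1), (175, 1), (187, 1), (188, 1), (189, 1), (198, 1), (200, 1), (202, 1), (203, 1), (204, 1), (206, 1), (207, 1), (208, 1), (213, 1), (217, 1), (219, 1), (221, 1), (224, 1)]),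
  (true, [(63, 1), (105, 1), (109, 1), (112, 1), (124, 1), (135, 1), (139, 1), (143, 1), (144, 1), (154, 1), (160, 1), (174, 1), (175, 1), (176, 1), (180, 1), (184, 1), (187, 1), (188, 1), (189, 1), (192, 1), (195, 1), (199, 1), (204, 1), (205, 1), (208, 1), (210, 1), (214, 1), (217, 1), (222, 1)]),
  (true, [(78, 1), (79, 1), (90, 1), (96, 1), (110, 1), (120, 1), (124, 1), (125, 1), (126, 1), (127, 1), (128, 1), (135, 1), (141, 1), (142, 1), (143, 1), (144, 1), (155, 1), (169, 1), (171, 1), (173, 1), (174, 1), (176, 1), (185, 1), (187, 1), (189, 1), (190, 1), (195, 1), (203, 1), (204, 1), (210, 1), (216, 1), (219, 1), (222, 1)]),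
  (true, [(204, 1), (206, 1), (207, 1)]),
  (true, [(205, 1), (207, 1), (223, 1)]),
  (true, [(220, 1), (222, 1), (223, 1)]),
  (true, [(219, 1), (221, 1), (222, 1)]),
  (true, [(160, 1), (192, 1), (207, 1), (208, 1)]),
  (true, [(144, 1), (176, 1), (189, 1), (192, 1)]),
  (true, [(160, 1), (192, 1), (220, 1), (224, 1)]),
  (true, [(203, 1), (206, 1)]),
  (true, [(205, 1), (207, 1)]),
  (true, [(218, 1), (221, 1)]),
  (true, [(159, 1), (190, 1), (191, 1), (219, 1), (222, 1)]),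
  (true, [(200, 1), (203, 1), (206, 1), (207, 1), (223, 1)]),
  (true, [(215, 1), (218, 1), (220, 1)]),
  (true, [(175, 1), (189, 1), (204, 1), (207, 1)]),
  (true, [(151, 1), (158, 1), (175, 1), (181, 1), (211, 1), (218, 1), (221, 1)]),
  (true, [(195, 1), (196, 1), (197, 1), (199, 1), (200, 1), (202, 1), (223, 1)]),
  (true, [(210, 1), (211, 1), (212, 1), (214, 1), (215, 1), (217, 1)]),
  (true, [(80, 1), (128, 1), (173, 1), (176, 1), (188, 1), (191, 1), (192, 1), (218, 1), (221, 1), (222, 1), (224, 1)]),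
  (true, [(136, 1), (151, 1), (158, 1), (166, 1), (173, 1), (175, 1), (188, 1), (191, 1), (196, 1), (207, 1), (218, 1), (221, 1), (223, 1), (233, 1), (237, 1)]),
  (true, [(142, 1), (155, 1), (157, 1), (158, 1), (170, 1), (172, 1), (173, 1), (175, 1), (200, 1), (217, 1), (218, 1), (220, 1), (223, 1), (236, 1), (237, 1)]),
  (true, [(140, 1), (142, 1), (143, 1), (159, 1), (172, 1), (185, 1), (187, 1), (188, 1), (190, 1), (203, 1), (208, 1), (218, 1), (223, 1), (224, 1)]),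
  (true, [(154, 1), (180, 1), (181, 1), (182, 1), (185, 1), (187, 1), (195, 1), (211, 1), (212, 1), (215, 1), (217, 1), (222, 1), (223, 1), (236, 1), (237, 1)]),
  (true, [(76, 1), (121, 1), (166, 1), (181, 1), (188, 1), (192, 1), (203, 1), (206, 1), (207, 1), (211, 1), (222, 1), (223, 1), (236, 1), (237, 1)]),
  (true, [(80, 1), (110, 1), (125, 1), (127, 1), (128, 1), (155, 1), (158, 1), (160, 1), (188, 1), (192, 1), (202, 1), (205, 1), (208, 1), (222, 1), (224, 1), (235, 1), (237, 1)]),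
  (true, [(150, 1), (151, 1), (152, 1), (155, 1), (157, 1), (166, 1), (167, 1), (176, 1), (181, 1), (184, 1), (192, 1), (196, 1), (207, 1), (208, 1), (210, 1), (211, 1), (215, 1), (217, 1), (220, 1), (221, 1), (222, 1), (223, 1), (224, 1)]),
  (true, [(135, 1), (136, 1), (137, 1), (140, 1), (142, 1), (151, 1), (160, 1), (166, 1), (167, 1), (169, 1), (176, 1), (180, 1), (181, 1), (185, 1), (187, 1), (191, 1), (192, 1), (197, 1), (200, 1), (202, 1), (207, 1), (211, 1), (212, 1), (215, 1), (217, 1), (219, 1), (220, 1), (221, 1), (222, 1)]),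
  (true, [(79, 1), (120, 1), (121, 1), (122, 1), (125, 1), (127, 1), (151, 1), (152, 1), (155, 1), (157, 1), (165, 1), (166, 1), (167, 1), (175, 1), (180, 1), (190, 1), (197, 1), (200, 1), (207, 1), (210, 1), (211, 1), (215, 1), (218, 1), (223, 1), (224, 1), (232, 1)]),
  (true, [(79, 1), (110, 1), (120, 1), (121, 1), (122, 1), (139, 1), (151, 1), (152, 1), (154, 1), (157, 1), (159, 1), (160, 1), (170, 1), (182, 1), (189, 1), (190, 1), (192, 1), (200, 1), (204, 1), (207, 1), (214, 1), (215, 1), (217, 1), (219, 1), (222, 1), (224, 1), (233, 1), (234, 1), (235, 1), (237, 1)]),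
  (true, [(75, 1), (76, 1), (77, 1), (91, 1), (92, 1), (96, 1), (110, 1), (121, 1), (124, 1), (128, 1), (135, 1), (150, 1), (159, 1), (167, 1), (171, 1), (173, 1), (175, 1), (181, 1), (182, 1), (185, 1), (187, 1), (188, 1), (191, 1), (196, 1), (197, 1), (200, 1), (201, 1), (202, 1), (203, 1), (204, 1), (205, 1), (207, 1), (210, 1), (215, 1), (216, 1), (218, 1), (234, 1), (236, 1)]),
  (true, [(0, 1), (15, 1), (16, 1), (30, 1), (31, 1), (32, 1), (61, 1), (62, 1), (76, 1), (78, 1), (79, 1), (92, 1), (93, 1), (94, 1), (95, 1), (96, 1), (106, 1), (107, 1), (108, 1), (111, 1), (112, 1), (121, 1), (123, 1), (124, 1), (125, 1), (136, 1), (137, 1), (139, 1), (141, 1), (142, 1), (143, 1), (144, 1), (152, 1), (155, 1), (156, 1), (157, 1), (160, 1), (168, 1), (171, 1), (172, 1), (173, 1), (174, 1), (176, 1), (182, 1), (183, 1), (185, 1), (191, 1), (192, 1), (199, 1), (201, 1), (202, 1), (204, 1), (205, 1), (206,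 1), (207, 1), (208, 1), (211, 1), (213, 1), (214, 1), (220, 1), (224, 1), (232, 1), (234, 1), (236, 1)]),
  (true, [(128, 1), (208, 1), (218, 1), (224, 1)]),
  (true, [(211, 1), (215, 1), (217, 1), (223, 1)]),
  (true, [(125, 1), (143, 1), (158, 1), (188, 1), (203, 1), (204, 1), (215, 1), (220, 1), (222, 1)]),
  (true, [(121, 1), (125, 1), (127, 1), (185, 1), (187, 1), (188, 1), (192, 1), (202, 1), (203, 1), (207, 1), (208, 1), (211, 1), (215, 1), (222, 1), (224, 1)]),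
  (true, [(16, 1), (76, 1), (80, 1), (106, 1), (110, 1), (112, 1), (157, 1), (160, 1), (181, 1), (185, 1), (187, 1), (192, 1), (196, 1), (202, 1), (207, 1), (220, 1)]),
  (true, [(76, 1), (78, 1), (95, 1), (110, 1), (125, 1), (126, 1), (127, 1), (128, 1), (136, 1), (138, 1), (141, 1), (142, 1), (143, 1), (151, 1), (155, 1), (170, 1), (175, 1), (176, 1), (181, 1), (183, 1), (185, 1), (186, 1), (189, 1), (191, 1), (198, 1), (200, 1), (203, 1), (207, 1), (215, 1), (217, 1), (218, 1), (222, 1), (223, 1), (224, 1), (296, 1), (297, 1)]),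
  (true, [(46, 1), (78, 1), (108, 1), (125, 1), (136, 1), (140, 1), (142, 1), (143, 1), (159, 1), (166, 1), (172, 1), (175, 1), (180, 1), (182, 1), (184, 1), (185, 1), (187, 1), (196, 1), (197, 1), (198, 1), (199, 1), (200, 1), (203, 1), (205, 1), (206, 1), (212, 1), (213, 1), (214, 1), (217, 1), (218, 1), (221, 1), (224, 1), (296, 1), (297, 1)]),
  (true, [(46, 1), (76, 1), (78, 1), (91, 1), (95, 1), (108, 1), (110, 1), (111, 1), (121, 1), (126, 1), (127, 1), (151, 1), (155, 1), (156, 1), (157, 1), (166, 1), (170, 1), (183, 1), (185, 1), (186, 1), (187, 1), (188, 1), (189, 1), (190, 1), (191, 1), (201, 1), (206, 1), (208, 1), (211, 1), (215, 1), (218, 1), (220, 1), (221, 1), (223, 1), (224, 1)]),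
  (true, [(176, 1), (192, 1)]),
  (true, [(206, 1), (207, 1)]),
  (true, [(221, 1), (222, 1)]),
  (true, [(169, 1), (187, 1), (189, 1), (191, 1)]),
  (true, [(199, 1), (202, 1), (204, 1), (206, 1)]),
  (true, [(214, 1), (217, 1), (219, 1), (221, 1)]),
  (true, [(171, 1), (184, 1), (186, 1), (187, 1), (222, 1)]),
  (true, [(174, 1), (189, 1), (190, 1)]),
  (true, [(173, 1), (184, 1), (188, 1), (189, 1), (191, 1), (222, 1)]),
  (true, [(199, 1), (204, 1), (206, 1), (223, 1)]),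
  (true, [(159, 1), (160, 1), (189, 1), (190, 1), (192, 1)]),
  (true, [(167, 1), (182, 1), (183, 1), (185, 1), (187, 1), (188, 1), (191, 1)]),
  (true, [(198, 1), (200, 1), (202, 1), (203, 1), (206, 1)]),
  (true, [(213, 1), (215, 1), (217, 1), (218, 1), (221, 1)]),
  (true, [(195, 1), (196, 1), (198, 1), (200, 1), (201, 1), (202, 1), (203, 1), (207, 1)]),
  (true, [(210, 1), (211, 1), (213, 1), (215, 1), (216, 1), (217, 1), (218, 1), (222, 1)]),
  (true, [(64, 1), (112, 1), (142, 1), (144, 1), (172, 1), (174, 1), (176, 1), (204, 1), (219, 1), (223, 1), (224, 1), (363, 1), (365, 1)]),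
  (true, [(139, 1), (142, 1), (157, 1), (159, 1), (174, 1), (175, 1), (187, 1), (189, 1), (191, 1), (204, 1), (205, 1), (206, 1), (207, 1), (219, 1), (220, 1), (221, 1), (222, 1), (365, 1), (366, 1)]),
  (true, [(165, 1), (166, 1), (181, 1), (182, 1), (183, 1), (184, 1), (186, 1), (188, 1), (190, 1), (191, 1), (192, 1), (196, 1), (208, 1), (211, 1), (223, 1), (224, 1)]),
  (true, [(64, 1), (124, 1), (139, 1), (143, 1), (144, 1), (169, 1), (174, 1), (206, 1), (214, 1), (219, 1), (221, 1), (223, 1)]),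
  (true, [(64, 1), (94, 1), (109, 1), (111, 1), (112, 1), (171, 1), (172, 1), (176, 1), (186, 1), (192, 1), (201, 1), (206, 1), (208, 1), (214, 1), (216, 1), (217, 1), (222, 1), (224, 1), (364, 1), (366, 1)]),
  (true, [(64, 1), (109, 1), (154, 1), (157, 1), (160, 1), (169, 1), (172, 1), (175, 1), (176, 1), (184, 1), (187, 1), (190, 1), (192, 1), (199, 1), (202, 1), (206, 1), (207, 1), (214, 1), (222, 1), (224, 1), (364, 1), (366, 1)]),
  (true, [(135, 1), (136, 1), (140, 1), (141, 1), (142, 1), (143, 1), (151, 1), (153, 1), (160, 1), (165, 1), (180, 1), (189, 1), (191, 1), (195, 1), (202, 1), (207, 1), (210, 1), (211, 1), (217, 1), (220, 1), (221, 1), (222, 1), (223, 1), (364, 1), (365, 1), (366, 1)]),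
  (true, [(62, 1), (107, 1), (108, 1), (110, 1), (127, 1), (137, 1), (138, 1), (140, 1), (142, 1), (143, 1), (155, 1), (160, 1), (167, 1), (170, 1), (173, 1), (174, 1), (176, 1), (191, 1), (198, 1), (202, 1), (206, 1), (207, 1), (213, 1), (218, 1), (220, 1), (222, 1), (223, 1), (363, 1), (366, 1)]),
  (true, [(47, 1), (48, 1), (77, 1), (78, 1), (80, 1), (95, 1), (96, 1), (107, 1), (108, 1), (110, 1), (112, 1), (122, 1), (123, 1), (127, 1), (155, 1), (160, 1), (167, 1), (170, 1), (172, 1), (185, 1), (187, 1), (188, 1), (192, 1), (198, 1), (200, 1), (202, 1), (213, 1), (216, 1), (217, 1), (218, 1), (221, 1), (224, 1), (364, 1)]),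
  (true, [(60, 1), (61, 1), (62, 1), (79, 1), (94, 1), (106, 1), (109, 1), (112, 1), (120, 1), (121, 1), (122, 1), (126, 1), (127, 1), (135, 1), (139, 1), (141, 1), (142, 1), (143, 1), (154, 1), (158, 1), (160, 1), (165, 1), (167, 1), (169, 1), (174, 1), (175, 1), (176, 1), (187, 1), (188, 1), (199, 1), (201, 1), (203, 1), (204, 1), (210, 1), (212, 1), (214, 1), (216, 1), (217, 1), (219, 1), (220, 1), (221, 1), (365, 1), (366, 1)]),
  (true, [(0, 1), (15, 1), (16, 1), (46, 1), (63, 1), (75, 1), (76, 1), (80, 1), (90, 1), (91, 1), (105, 1), (106, 1), (110, 1), (112, 1), (120, 1), (123, 1), (124, 1), (126, 1), (128, 1), (136, 1), (140, 1), (141, 1), (151, 1), (153, 1), (154, 1), (156, 1), (158, 1), (160, 1), (166, 1), (170, 1), (172, 1), (173, 1), (174, 1), (175, 1), (176, 1), (180, 1), (186, 1), (187, 1), (188, 1), (192, 1), (196, 1), (205, 1), (206, 1), (211, 1), (213, 1), (215, 1), (216, 1), (217, 1),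 (218, 1), (223, 1), (224, 1), (360, 1), (363, 1), (365, 1)]),
  (true, [(30, 1), (31, 1), (46, 1), (48, 1), (61, 1), (63, 1), (76, 1), (77, 1), (80, 1), (91, 1), (93, 1), (106, 1), (108, 1), (109, 1), (110, 1), (120, 1), (121, 1), (125, 1), (135, 1), (137, 1), (139, 1), (142, 1), (150, 1), (151, 1), (153, 1), (154, 1), (155, 1), (156, 1), (158, 1), (159, 1), (160, 1), (165, 1), (166, 1), (168, 1), (169, 1), (170, 1), (171, 1), (172, 1), (175, 1), (176, 1), (180, 1), (183, 1), (185, 1), (188, 1), (189, 1), (191, 1), (195, 1), (197, 1), (206, 1), (207, 1), (210, 1), (212, 1), (214, 1), (215, 1), (220, 1), (223, 1), (224, 1), (360, 1), (363, 1)])]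

/-- Words of the generators. -/
def pcw : List (List ℕ) := [
    [1, 1, 1, 0, 0, 0, 1, 0, 0, 0, 1, 0, 0, 1, 0, 1, 1, 0, 0, 0, 1, 0, 1, 1, 1, 1, 0, 0, 0, 0, 0, 0],
    [0, 1, 1, 0, 1, 1, 0, 1, 0, 1, 1, 1, 1, 1, 0, 0, 0, 1, 1, 1, 1, 1, 0, 1, 0, 0, 1, 0, 0, 0, 0, 1, 0, 1],
    [0, 1, 1, 1, 0, 1, 0, 1, 0, 1, 1, 1, 1, 0, 1, 0, 1, 1, 1, 0, 1, 1, 1, 1, 0, 0, 0, 1, 0, 1, 0, 0, 1, 0, 0, 1],
    [1, 1, 1, 1, 1, 0, 1, 1, 0, 0, 1, 1, 1, 1, 1, 0, 0, 0, 1, 0, 0, 1, 1, 0, 1, 0, 0, 0, 1, 0, 1, 0, 1, 0, 1, 0, 1],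
    [0, 0, 0, 1, 1, 1, 1, 1, 0, 0, 1, 0, 0, 1, 1, 0, 1, 0, 1, 0, 1, 0, 0, 1, 0, 0, 1, 0, 0, 1, 0, 1, 1, 0, 1, 0, 0, 0, 1],
    [1, 0, 0, 0, 0, 0, 0, 1, 0, 0, 0, 0, 1, 0, 0, 0, 0, 1, 1, 0, 1, 1, 0, 1, 1, 1, 1, 0, 1, 1, 1, 1, 1, 1, 0, 0, 1],
    [1, 1, 0, 0, 0, 0, 0, 0, 1, 0, 0, 0, 0, 1, 0, 0, 0, 1, 0, 0, 0, 1, 1, 0, 0, 0, 0, 0, 0, 0, 1, 0, 1],
    [1, 1, 0, 1, 0, 1, 1, 1, 0, 1, 0, 1, 1, 0, 1, 0, 0, 0, 1, 1, 0, 1, 1, 0, 1, 1, 1, 0, 1, 1, 0, 1, 0],
    [0, 1, 0, 1, 1, 0, 0, 0, 1, 1, 1, 0, 1, 1, 0, 0, 0, 1, 0, 0, 1, 1, 0, 1, 1, 0, 1, 1, 1, 0, 1, 1, 1, 0, 0, 0, 1, 1],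
    [1, 0, 1, 0, 1, 0, 0, 0, 0, 1, 1, 1, 1, 1, 1, 0, 1, 1, 1, 1, 1, 0, 0, 0, 0, 0, 1, 0, 1, 0, 0, 0, 1, 0, 1],
    [1, 0, 1, 1, 0, 0, 1, 1, 0, 0, 0, 0, 0, 0, 0, 0, 1, 0, 1, 0, 0, 1, 0, 0, 0, 0, 1, 1, 0, 0, 1, 0, 1, 1],
    [0, 1, 1, 1, 1, 0, 1, 0, 0, 0, 1, 1, 1, 1, 1, 1, 1, 1, 1, 0, 1, 1, 1, 1, 1, 0, 0, 1, 1, 1, 0, 1, 0, 1],
    [0, 1, 0, 0, 1, 1, 0, 0, 0, 0, 0, 0, 1, 0, 1, 1, 0, 0, 1, 0, 0, 0, 0, 1, 0, 1, 1, 1, 0, 0, 0, 1, 1, 1, 0, 1],
    [1, 1, 1, 1, 0, 1, 1, 0, 0, 0, 1, 1, 1, 1, 0, 1, 1, 1, 1, 1, 0, 0, 0, 0, 0, 1, 1, 1, 1, 0, 1, 1, 0, 0, 1, 0],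
    [0, 1, 1, 0, 1, 0, 0, 1, 1, 1, 0, 1, 0, 0, 0, 1, 1, 0, 1, 1, 1, 0, 0, 0, 1, 0, 0, 1, 0, 1, 1, 1, 1, 0, 0, 1, 1, 1, 1, 0, 1, 0, 1, 1, 0, 1, 0, 1, 0, 0, 0, 1, 1, 0]]

/-- Words of the conjugating elements. -/
def fw : List (List ℕ) := [
    [1, 1, 0, 1, 0, 1, 0, 1, 1, 1, 0, 1, 1, 1, 0, 1, 1, 1, 0, 0, 1, 0, 0, 0, 0, 1, 0, 1, 0, 1, 1, 0, 1, 1, 0],
    [1, 1, 1, 1, 1, 1, 1, 1, 0, 1, 0, 1, 0, 0, 1, 0, 0, 0, 0, 1, 1, 1, 1, 1, 1, 1, 0, 1, 1, 0, 1, 1, 0, 0, 1, 1],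
    [1, 0, 0, 0, 0, 0, 0, 0, 0, 1, 1, 1, 1, 0, 0, 0, 0, 0, 1, 1, 0, 0, 1, 1, 0, 0, 0, 1, 1, 0, 0, 0]]

/-- Small stable sets of points. -/
def orbs : List (List ℕ) := [
    [1520, 11572, 1521, 9584, 6179, 8264, 6177, 8265, 1522, 11573, 9965, 9967, 6178, 11574, 9585, 6176, 8266, 1523, 13996, 13999, 14354, 14352, 13998, 9586, 13997, 11575, 8267, 9966, 9964, 14355, 14353, 9587],
    [1892, 11813, 6407, 11814, 11812, 1894, 8206, 1895, 1893, 11815, 8207, 6405, 8204, 8205, 6406, 6404],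
    [84, 13501, 13502, 85, 87, 86, 13500, 13503],
    [1892, 11814, 11812, 1894, 11813, 1893, 1895, 11815],
    [196, 10323, 5750, 11355, 13360, 7707, 6018, 198, 13362, 1519, 5748, 13172, 11141, 10321, 15573, 9917, 9511, 6500, 15575, 10359, 8262, 11353, 620, 13482, 1056, 9677, 2847, 7705, 6016, 622, 13480, 1058, 8260, 9679, 6502, 1517, 9919, 9509, 10357, 5441, 13174, 11143, 463, 13217, 12594, 10360, 16150, 1728, 16148, 461, 13219, 12592, 1341, 14309, 2845, 14311, 1343, 1730, 10362, 5443, 15707, 14893, 14895, 15705],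
    [84, 85, 87, 86],
    [52, 5775, 5773, 13712, 6033, 8362, 54, 8360, 5608, 15377, 15601, 5610, 15379, 15603, 13714, 6035],
    [68, 7819, 10779, 16107, 2206, 6222, 70, 2079, 8149, 4281, 15793, 7817, 10777, 8854, 15814, 4077, 6220, 2204, 16105, 2077, 11897, 8073, 12152, 15795, 4283, 8151, 8852, 15812, 4079, 11899, 8075, 12154],
    [1892, 1894],
    [1520, 6179, 1522, 6177],
    [1520, 1522],
    [52, 8362, 54, 8360],
    [52, 54],
    [0, 2],
    [0]]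

end Cfsg.Lib.Rudvalis.Mult.Two
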